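import Cfsg.Agent.Lib.Classical.SUComm.Field
import Cfsg.Agent.Lib.Classical.SmallIso.QuartField

/-!
# The field with four elements
-/

set_option autoImplicit false
set_option linter.unusedSectionVars false

namespace CfsgLib.SUComm.Two

open Matrix CfsgLib.Classical CfsgLib.Classical.SmallIso

/-- The standing hypotheses: four elements and `σ` is squaring. -/
structure F4 {F : Type*} [Field F] [Fintype F] (σ : F →+* F) : Prop where
  card : Fintype.card F = 2 ^ 2
  frob : ∀ x, σ x = x ^ 2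

variable {F : Type*} [Field F] [Fintype F] {σ : F →+* F}

theorem F4.two (h : F4 σ) : (2 : F) = 0 := by
  obtain ⟨_, -, h2⟩ := W4.exists_omega (F := F) (by rw [h.card]; norm_num)
  exact h2

theorem F4.char (h : F4 σ) : CharP F 2 := CharTwo.of_one_ne_zero_of_two_eq_zero one_ne_zero h.two

theorem F4.neg_eq (h : F4 σ) (x : F) : -x = x := by linear_combination -x * h.two

theorem F4.add_self (h : F4 σ) (x : F) : x + x = 0 := by linear_combination x * h.two

theorem F4.neg_mat (h : F4 σ) {a b : Type*} (M : Matrix a b F) : -M = M := by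
  ext i j; exact h.neg_eq _

theorem F4.add_self_mat (h : F4 σ) {a b : Type*} (M : Matrix a b F) : M + M = 0 := by
  ext i j; exact h.add_self _

theorem F4.conj (h : F4 σ) (x : F) : σ (σ x) = x := by
  rw [h.frob, h.frob, pow_q_q h.card]

theorem F4.cube (h : F4 σ) {x : F} (hx : x ≠ 0) : x ^ 3 = 1 := by
  have := FiniteField.pow_card_sub_one_eq_one x hx
  rwa [h.card, show 2 ^ 2 - 1 = 3 by norm_num] at this

theorem F4.norm (h : F4 σ) {x : F} (hx : x ≠ 0) : x * σ x = 1 := by
  rw [h.frob, ← h.cube hx]; ring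

theorem F4.fourth (h : F4 σ) (x : F) : x ^ 4 = x := by
  rcases eq_or_ne x 0 with rfl | hx
  · ring
  · linear_combination x * h.cube hx

/-- A fixed element is `0` or `1`. -/
theorem F4.fixed (h : F4 σ) {x : F} (hx : σ x = x) : x = 0 ∨ x = 1 := by
  rw [h.frob] at hx
  rcases eq_or_ne x 0 with h0 | h0
  · exact Or.inl h0
  · exact Or.inr (mul_left_cancel₀ h0 (by rw [mul_one]; linear_combination hx))

/-- A root of `X² + X + 1`. -/
def IsW (w : F) : Prop := w * w = w + 1

theorem F4.exists_w (h : F4 σ) : ∃ w : F, IsW w := by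
  obtain ⟨w, hw, -⟩ := W4.exists_omega (F := F) (by rw [h.card]; norm_num)
  exact ⟨w, hw⟩

theorem IsW.ne_zero {w : F} (hw : IsW w) : w ≠ 0 := fun e => by
  rw [IsW, e] at hw; simp at hw

theorem IsW.ne_one (h : F4 σ) {w : F} (hw : IsW w) : w ≠ 1 := fun e => by
  rw [IsW, e] at hw
  exact one_ne_zero (show (1 : F) = 0 by linear_combination -hw)

theorem IsW.succ_ne_zero (h : F4 σ) {w : F} (hw : IsW w) : w + 1 ≠ 0 := fun e => by
  have hw' := hw
  rw [IsW, e] at hw'
  exact hw.ne_zero (mul_self_eq_zero.1 hw')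

theorem IsW.conj (h : F4 σ) {w : F} (hw : IsW w) : σ w = w + 1 := by rw [h.frob, sq, hw]

theorem F4.cases (h : F4 σ) {w : F} (hw : IsW w) (x : F) : x = 0 ∨ x = 1 ∨ x = w ∨ x = w + 1 := by
  rcases eq_or_ne x 0 with h0 | h0
  · exact Or.inl h0
  have h3 := h.cube h0
  have : (x - 1) * ((x - w) * (x - (w + 1))) = 0 := by
    rw [IsW] at hw
    linear_combination h3 + (x - 1) * hw + (-(w * x ^ 2) + 2 * w * x - x ^ 2 - w + x) * h.two
  rcases mul_eq_zero.1 this with e | e
  · exact Or.inr (Or.inl (sub_eq_zero.1 e))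
  rcases mul_eq_zero.1 e with e | e
  · exact Or.inr (Or.inr (Or.inl (sub_eq_zero.1 e)))
  · exact Or.inr (Or.inr (Or.inr (sub_eq_zero.1 e)))

/-- A relation `t p + σ t r + s = 0` for all nonzero `t` is trivial. -/
theorem F4.three_trick (h : F4 σ) {p r s : F} (H : ∀ t : F, t ≠ 0 → t * p + σ t * r + s = 0) :
    p = 0 ∧ r = 0 ∧ s = 0 := by
  obtain ⟨w, hw⟩ := h.exists_w
  have e1 := H 1 one_ne_zero
  have e2 := H w hw.ne_zero
  have e3 := H (w + 1) (hw.succ_ne_zero h)
  rw [map_one] at e1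
  rw [hw.conj h] at e2
  rw [map_add, map_one, hw.conj h] at e3
  have hs : s = 0 := by linear_combination e1 + e2 + e3 - (p + r + s + w * p + w * r + r) * h.two
  have hp : p = 0 := by linear_combination e1 * (w + 1) + e2 - (hs) * (w + 2) - (w * p + w * r + r) * h.two
  refine ⟨hp, ?_, hs⟩
  linear_combination e1 - hp - hs

/-- Injective map from the computable model. -/
theorem F4.exists_model (h : F4 σ) :
    ∃ φ : W4 →+* F, Function.Injective φ ∧ IsW (φ W4.w) ∧ ∀ x, φ (W4.sq x) = σ (φ x) := by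
  obtain ⟨φ, hinj, hsq⟩ := W4.exists_hom (F := F) (by rw [h.card]; norm_num)
  refine ⟨φ, hinj, ?_, fun x => by rw [hsq, h.frob]⟩
  rw [IsW, ← map_mul, ← map_one φ, ← map_add]
  congr 1

end CfsgLib.SUComm.Two
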