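import Cfsg.Agent.Lib.Classical.SUComm.Two.Pattern

/-!
# The bottom blocks
-/

set_option autoImplicit false
set_option linter.unusedSectionVars false

namespace CfsgLib.SUComm.Two

open Matrix CfsgLib.Classical CfsgLib.Classical.SmallIso

variable {F : Type*} [Field F] [Fintype F] {σ : F →+* F}

/-- Companion of `X³ + X + 1` in the model. -/
def T3 : Matrix (Fin 3) (Fin 3) W4 := !![0, 0, 1; 1, 0, 1; 0, 1, 0]

/-- Its inverse. -/
def T3i : Matrix (Fin 3) (Fin 3) W4 := !![1, 1, 0; 0, 0, 1; 1, 0, 0]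

/-- The second factor of a companion matrix. -/
def wit : Fin 4 → Fin 4 → Matrix (Fin 3) (Fin 3) W4
  | 0, 0 => !![0, 0, W4.w; 1, 0, 1; 1, W4.w + 1, 0]
  | 0, 1 => !![0, 0, 1; W4.w, 0, W4.w + 1; W4.w + 1, W4.w + 1, 0]
  | 0, 2 => !![0, W4.w, W4.w; 1, 0, 0; W4.w, W4.w + 1, 0]
  | 0, 3 => !![0, W4.w, 1; 0, 0, 1; W4.w + 1, W4.w, 0]
  | 1, 0 => !![0, 0, 1; 1, 0, 1; 0, 1, 0]
  | 1, 1 => !![0, 0, 1; 1, 0, 0; 1, 1, 0]
  | 1, 2 => !![0, W4.w + 1, 1; W4.w, 0, 0; 0, W4.w + 1, 0]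
  | 1, 3 => !![0, W4.w, 1; W4.w + 1, 0, 0; 0, W4.w, 0]
  | 2, 0 => !![0, 0, W4.w; W4.w, 0, 1; W4.w, W4.w, 0]
  | 2, 1 => !![0, 0, W4.w; W4.w, 0, W4.w + 1; 0, W4.w, 0]
  | 2, 2 => !![0, 0, 1; W4.w, 0, 0; 1, W4.w + 1, 0]
  | 2, 3 => !![0, 0, W4.w + 1; 1, 0, W4.w + 1; 0, W4.w, 0]
  | 3, 0 => !![0, 0, W4.w + 1; W4.w + 1, 0, 1; W4.w + 1, W4.w + 1, 0]
  | 3, 1 => !![0, 0, W4.w + 1; W4.w + 1, 0, W4.w; 0, W4.w + 1, 0]
  | 3, 2 => !![0, 0, W4.w; 1, 0, W4.w; 0, W4.w + 1, 0]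
  | 3, 3 => !![0, 0, 1; W4.w, 0, W4.w; 0, W4.w + 1, 0]

/-- The four elements. -/
def el : Fin 4 → W4
  | 0 => 0
  | 1 => 1
  | 2 => W4.w
  | 3 => W4.w + 1

/-- The Krylov matrix at the first basis vector. -/
def kry (X : Matrix (Fin 3) (Fin 3) W4) : Matrix (Fin 3) (Fin 3) W4 :=
  Matrix.of fun i j => (![(1 : Matrix (Fin 3) (Fin 3) W4), X, X * X] j) i 0

/-- The companion in the model. -/
def comp3 (i j : Fin 4) : Matrix (Fin 3) (Fin 3) W4 := !![0, 0, 1; 1, 0, el i; 0, 1, el j]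

theorem wit_spec : ∀ i j : Fin 4, (kry (wit i j)).det ≠ 0 ∧ wit i j * kry (wit i j) = kry (wit i j) * T3 ∧
    (kry (comp3 i j * wit i j)).det ≠ 0 ∧
    comp3 i j * wit i j * kry (comp3 i j * wit i j) = kry (comp3 i j * wit i j) * T3 := by
  decide +kernel

theorem det_map {m : Type*} [Fintype m] [DecidableEq m] (φ : W4 →+* F) (M : Matrix m m W4) :
    (M.map φ).det = φ M.det := by
  rw [RingHom.map_det]; rfl

theorem isUnit_map {m : Type*} [Fintype m] [DecidableEq m] (φ : W4 →+* F) (M N : Matrix m m W4) (e : M * N = 1) :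
    IsUnit (M.map φ) :=
  IsUnit.of_mul_eq_one (N.map φ) (by rw [← Matrix.map_mul, e]; exact Matrix.map_one φ (map_zero φ) (map_one φ))

theorem isUnit_map' {m : Type*} [Fintype m] [DecidableEq m] {φ : W4 →+* F} (hφ : Function.Injective φ)
    (M : Matrix m m W4) (e : M.det ≠ 0) : IsUnit (M.map φ) := by
  rw [isUnit_iff_isUnit_det, det_map]
  exact isUnit_iff_ne_zero.2 fun e' => e (hφ (by rw [e', map_zero]))

theorem ct_map {m : Type*} (φ : W4 →+* F) (hsq : ∀ x, φ (W4.sq x) = σ (φ x)) (M : Matrix m m W4) :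
    ct σ (M.map φ) = ((M.map W4.sq)ᵀ).map φ := by
  ext i j; simp [ct, hsq]

/-- Every companion of determinant one decomposes. -/
theorem dec_comp3 {φ : W4 →+* F} (hφ : Function.Injective φ) (h : F4 σ) (hw : IsW (φ W4.w)) (v1 v2 : F) :
    Dec (T3.map φ) !![0, 0, 1; 1, 0, v1; 0, 1, v2] := by
  have hsurj : ∀ x : F, ∃ i, φ (el i) = x := fun x => by
    rcases h.cases hw x with e | e | e | e
    · exact ⟨0, by rw [e]; simp [el]⟩
    · exact ⟨1, by rw [e]; simp [el]⟩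
    · exact ⟨2, by rw [e]; rfl⟩
    · exact ⟨3, by rw [e]; simp [el]⟩
  obtain ⟨i, rfl⟩ := hsurj v1
  obtain ⟨j, rfl⟩ := hsurj v2
  obtain ⟨d1, e1, d2, e2⟩ := wit_spec i j
  refine ⟨(comp3 i j * wit i j).map φ, (wit i j).map φ, ⟨_, isUnit_map' hφ _ d2, ?_⟩, ⟨_, isUnit_map' hφ _ d1, ?_⟩, ?_⟩
  · rw [← Matrix.map_mul, e2, Matrix.map_mul]
  · rw [← Matrix.map_mul, e1, Matrix.map_mul]
  · rw [Matrix.map_mul]
    congr 1
    ext a b; fin_cases a <;> fin_cases b <;> simp [comp3]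

/-- Conjugate reciprocal quadratic. -/
theorem isUnit_recip {m : Type*} [Fintype m] [DecidableEq m] (h : F4 σ) {P Pi' : Matrix m m F} (e : P * Pi' = 1)
    (a b : F) (hu : IsUnit (σ b • (P * P) + σ a • P + 1)) :
    IsUnit (ct σ Pi' * ct σ Pi' + a • ct σ Pi' + b • 1) := by
  have e' : Pi' * P = 1 := mul_eq_one_comm.1 e
  have hid : ct σ Pi' * ct σ Pi' + a • ct σ Pi' + b • 1 = ct σ (Pi' * Pi' * (σ b • (P * P) + σ a • P + 1)) := by
    rw [Matrix.mul_add, Matrix.mul_add, Matrix.mul_smul, Matrix.mul_smul, Matrix.mul_one,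
      show Pi' * Pi' * (P * P) = 1 by rw [← Matrix.mul_assoc, Matrix.mul_assoc Pi' Pi' P, e', Matrix.mul_one, e'],
      Matrix.mul_assoc Pi' Pi' P, e', Matrix.mul_one]
    simp only [ct_add, ct_smul, ct_mul, ct_one, h.conj]
    abel
  rw [hid]
  exact isUnit_ct σ (((IsUnit.of_mul_eq_one P e').mul (IsUnit.of_mul_eq_one P e')).mul hu)

/-- Conjugate reciprocal cubic. -/
theorem isUnit_recip3 {m : Type*} [Fintype m] [DecidableEq m] (h : F4 σ) {P Pi' : Matrix m m F} (e : P * Pi' = 1)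
    (hu : IsUnit (P * P * P + P * P + 1)) : IsUnit (ct σ Pi' * ct σ Pi' * ct σ Pi' + ct σ Pi' + 1) := by
  have e' : Pi' * P = 1 := mul_eq_one_comm.1 e
  have hid : ct σ Pi' * ct σ Pi' * ct σ Pi' + ct σ Pi' + 1 = ct σ (Pi' * Pi' * Pi' * (P * P * P + P * P + 1)) := by
    have e1 : ∀ X : Matrix m m F, Pi' * (P * X) = X := fun X => by rw [← Matrix.mul_assoc, e', Matrix.one_mul]
    simp only [Matrix.mul_add, Matrix.mul_one, Matrix.mul_assoc, e1, e', ct_add, ct_mul, ct_one]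
    abel
  rw [hid]
  exact isUnit_ct σ ((((IsUnit.of_mul_eq_one P e').mul (IsUnit.of_mul_eq_one P e')).mul
    (IsUnit.of_mul_eq_one P e')).mul hu)

/-- The linked blocks, possibly none. -/
structure LModel (σ : F →+* F) (w : F) (J : ℕ) (M P : Matrix (Fin (2 * J)) (Fin (2 * J)) F) : Prop where
  dec : Dec P M
  det : M.det = 1
  detP : P.det = 1
  hess : Hess M
  trace : M.trace = (J : F)
  nil : gq w P ^ J = 0

theorem exists_lmodel (h : F4 σ) {w : F} (hw : IsW w) : ∀ J : ℕ, ∃ M P, LModel σ w J M P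
  | 0 => ⟨1, 1, ⟨dec_one 1, det_one, det_one, fun i => i.elim0, by simp [Matrix.trace], by ext i; exact i.elim0⟩⟩
  | j + 1 => by
    obtain ⟨M, P, Q, hm⟩ := exists_gmodel h hw j
    exact ⟨M, P, ⟨⟨P, Q, Sim.rfl' P, hm.sim h hw, hm.eq⟩, hm.det, hm.detP, hm.hess, hm.trace, hm.p0⟩⟩

end CfsgLib.SUComm.Two
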