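import Cfsg.Agent.Lib.Classical.SUComm.Two.Flag

/-!
# A frame with a cyclic corner block of determinant one
-/

set_option autoImplicit false
set_option linter.unusedSectionVars false

namespace CfsgLib.SUComm.Two

open Matrix CfsgLib.Classical
open CfsgLib.Classical.RegularProduct (bordered)

variable {F : Type*} [Field F] [Fintype F] {σ : F →+* F} {n : ℕ}

/-- Upper Hessenberg with non-zero subdiagonal. -/
def IsH {m : ℕ} (a : Matrix (Fin m) (Fin m) F) : Prop :=
  ∀ i j : Fin m, ((j : ℕ) + 1 < i → a i j = 0) ∧ ((i : ℕ) = j + 1 → a i j ≠ 0)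

/-- A frame with a good corner block. -/
def Good (σ : F →+* F) (g : Matrix (Fin n) (Fin n) F) : Prop :=
  ∃ (m k : ℕ) (V : Matrix (Fin n) (Fin m) F) (Z : Matrix (Fin n) (Fin k) F) (W : Matrix (Fin n) (Fin m) F),
    Fr σ V Z W ∧ k ≤ 1 ∧ 2 * m + k = n ∧ 2 ≤ m ∧ (ct σ W * g * V).det = 1 ∧
      (m = 2 → (ct σ W * g * V).trace ≠ 0) ∧ (3 ≤ m → IsH (ct σ W * g * V))

/-- The base frame of a flag. -/
theorem exists_base (h : F4 σ) {g : Matrix (Fin n) (Fin n) F} (hg : UStd σ g) {r : ℕ} (hf : Flag σ g r) :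
    ∃ (l : ℕ) (V : Matrix (Fin n) (Fin r) F) (Z : Matrix (Fin n) (Fin l) F) (W : Matrix (Fin n) (Fin r) F),
      Fr σ V Z W ∧ 2 * r + l = n ∧ ct σ W * g * V = 0 ∧ ct σ Z * g * V = 0 ∧
      (∀ j l : Fin r, l < j → (ct σ V * g * V) j l = 0) ∧ (∀ j : Fin r, (ct σ V * g * V) j j ≠ 0) ∧
      (∀ y, ct σ V *ᵥ y = 0 → ct σ Z *ᵥ y = 0 → ct σ W *ᵥ y = 0 → y = 0) := by
  obtain ⟨V, hVV, h1, h2⟩ := hf
  obtain ⟨Φ, hΦ⟩ : ∃ Φ, Φ = ct σ V * g * V := ⟨_, rfl⟩
  have hΦu : IsUnit Φ := by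
    rw [isUnit_iff_isUnit_det, det_of_upperTriangular (fun i j hij => by rw [hΦ]; exact h1 i j hij)]
    exact isUnit_iff_ne_zero.2 (Finset.prod_ne_zero_iff.2 fun i _ => by rw [hΦ]; exact h2 i)
  obtain ⟨Φi, hΦi⟩ := hΦu.exists_right_inv
  obtain ⟨W, hW⟩ : ∃ W, W = g * V * Φi := ⟨_, rfl⟩
  have hVW : ct σ V * W = 1 := by rw [hW, ← Matrix.mul_assoc, ← Matrix.mul_assoc, ← hΦ, hΦi]
  have hWV : ct σ W * V = 1 := by rw [← ct_one σ, ← hVW, ct_mul, ct_ct σ h.conj]
  have hgVV : ct σ (g * V) * (g * V) = 0 := by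
    rw [ct_mul, Matrix.mul_assoc, ← Matrix.mul_assoc (ct σ g), show ct σ g * g = 1 from hg, Matrix.one_mul, hVV]
  have hWW : ct σ W * W = 0 := by
    rw [hW, ct_mul, Matrix.mul_assoc, ← Matrix.mul_assoc (ct σ (g * V)), hgVV, Matrix.zero_mul, Matrix.mul_zero]
  obtain ⟨w, hw⟩ := h.exists_w
  have hσw := hw.conj h
  obtain ⟨P, hP⟩ : ∃ P : Matrix (Fin n) (Fin r ⊕ Fin r) F, P = fromCols (w • V + W) ((w + 1) • V + W) := ⟨_, rfl⟩
  have hPc : ct σ P = fromRows (ct σ (w • V + W)) (ct σ ((w + 1) • V + W)) := by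
    rw [hP]; ext (i | i) j <;> simp [ct_apply]
  have gen : ∀ c d : F, ct σ (c • V + W) * (d • V + W) = (σ c + d) • (1 : Matrix (Fin r) (Fin r) F) := fun c d => by
    simp only [ct_add, ct_smul, Matrix.add_mul, Matrix.mul_add, Matrix.smul_mul, Matrix.mul_smul, hVV, hVW, hWV, hWW,
      smul_zero, zero_add, add_zero, add_smul]
    exact add_comm _ _
  have hPP : ct σ P * P = 1 := by
    rw [hPc, hP, fromRows_mul_fromCols, gen, gen, gen, gen, map_add, map_one, hσw, ← fromBlocks_one]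
    congr 1
    · rw [show w + 1 + w = 1 by linear_combination w * h.two, one_smul]
    · rw [show w + 1 + (w + 1) = 0 by linear_combination (w + 1) * h.two, zero_smul]
    · rw [show w + 1 + 1 + w = 0 by linear_combination (w + 1) * h.two, zero_smul]
    · rw [show w + 1 + 1 + (w + 1) = 1 by linear_combination (w + 1) * h.two, one_smul]
  obtain ⟨l, Z, hl, hZ, hZP⟩ := exists_completion h hPP
  rw [Fintype.card_sum, Fintype.card_fin] at hl
  rw [hP, mul_fromCols] at hZP
  have hz1 : ct σ Z * (w • V + W) = 0 := by ext i j; exact congrFun (congrFun hZP i) (Sum.inl j)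
  have hz2 : ct σ Z * ((w + 1) • V + W) = 0 := by ext i j; exact congrFun (congrFun hZP i) (Sum.inr j)
  have hZV : ct σ Z * V = 0 := by
    have e : V = ((w + 1) • V + W) - (w • V + W) := by rw [add_smul, one_smul]; abel
    rw [e, Matrix.mul_sub, hz1, hz2, sub_zero]
  have hZW : ct σ Z * W = 0 := by
    rw [Matrix.mul_add, Matrix.mul_smul, hZV, smul_zero, zero_add] at hz1; exact hz1
  have hfr : Fr σ V Z W := ⟨hVV, hWV, hWW, hZV, hZW, hZ⟩
  refine ⟨l, V, Z, W, hfr, by omega, ?_, ?_, h1, h2, fun y hy1 hy2 hy3 => ?_⟩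
  · rw [Matrix.mul_assoc, hW, ct_mul, Matrix.mul_assoc, hgVV, Matrix.mul_zero]
  · have e : W * Φ = g * V := by rw [hW, Matrix.mul_assoc, mul_eq_one_comm.1 hΦi, Matrix.mul_one]
    rw [Matrix.mul_assoc, ← e, ← Matrix.mul_assoc, hZW, Matrix.zero_mul]
  · have hg1 : gram (F := F) (Fin r) (Fin l) * ct σ (frameMat V Z W) * frameMat V Z W = 1 := by
      rw [Matrix.mul_assoc, hfr.gram_eq h.conj, gram_mul_gram]
    have e : Fin r ⊕ (Fin l ⊕ Fin r) ≃ Fin n := Fintype.equivFinOfCardEq (by simp; omega)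
    have h3 := (Matrix.mul_eq_one_comm_of_equiv e).1 hg1
    have h4 : ct σ (frameMat V Z W) *ᵥ y = 0 := by
      funext i
      rcases i with i | i | i
      · exact congrFun hy1 i
      · exact congrFun hy2 i
      · exact congrFun hy3 i
    rw [← Matrix.one_mulVec y, ← h3, ← Matrix.mulVec_mulVec, ← Matrix.mulVec_mulVec, h4, Matrix.mulVec_zero,
      Matrix.mulVec_zero]

/-- Changing the second family. -/
theorem shift_frame (h : F4 σ) {α β : Type*} [Fintype α] [DecidableEq α] [Fintype β] [DecidableEq β]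
    {V : Matrix (Fin n) α F} {Z : Matrix (Fin n) β F} {W : Matrix (Fin n) α F} (hf : Fr σ V Z W)
    (g : Matrix (Fin n) (Fin n) F) {N : Matrix α α F} {U : Matrix β α F} (hN : N + ct σ N = ct σ U * U) :
    Fr σ V (Z + V * ct σ U) (W + Z * U + V * ct σ N) ∧
      ct σ (W + Z * U + V * ct σ N) * g * V = ct σ W * g * V + ct σ U * (ct σ Z * g * V) + N * (ct σ V * g * V) := by
  have e1 : ct σ V * W = 1 := by rw [← ct_one σ, ← hf.wv, ct_mul, ct_ct σ h.conj]
  have e2 : ct σ V * Z = 0 := by rw [← ct_zero σ, ← hf.zv, ct_mul, ct_ct σ h.conj]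
  have e3 : ct σ W * Z = 0 := by rw [← ct_zero σ, ← hf.zw, ct_mul, ct_ct σ h.conj]
  have cW : ct σ (W + Z * U + V * ct σ N) = ct σ W + ct σ U * ct σ Z + N * ct σ V := by
    rw [ct_add, ct_add, ct_mul, ct_mul, ct_ct σ h.conj]
  refine ⟨⟨hf.vv, ?_, ?_, ?_, ?_, ?_⟩, ?_⟩
  · rw [cW, Matrix.add_mul, Matrix.add_mul, hf.wv, Matrix.mul_assoc, Matrix.mul_assoc, hf.zv, hf.vv]; simp
  · rw [cW]
    simp only [Matrix.add_mul, Matrix.mul_add, Matrix.mul_assoc, hf.ww, hf.zw, hf.vv, e1,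
      ← Matrix.mul_assoc (ct σ W) Z, ← Matrix.mul_assoc (ct σ W) V, ← Matrix.mul_assoc (ct σ Z) Z,
      ← Matrix.mul_assoc (ct σ Z) V, ← Matrix.mul_assoc (ct σ V) Z, ← Matrix.mul_assoc (ct σ V) V, hf.wv, hf.zz,
      hf.zv, e2, e3, Matrix.zero_mul, Matrix.mul_zero, Matrix.one_mul, Matrix.mul_one, add_zero, zero_add]
    rw [← hN]
    linear_combination (norm := module) h.add_self_mat N + h.add_self_mat (ct σ N)
  · rw [ct_add, ct_mul, ct_ct σ h.conj, Matrix.add_mul, hf.zv, Matrix.mul_assoc, hf.vv]; simp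
  · rw [ct_add, ct_mul, ct_ct σ h.conj]
    simp only [Matrix.add_mul, Matrix.mul_add, Matrix.mul_assoc, hf.zw, hf.vv, e1,
      ← Matrix.mul_assoc (ct σ Z) Z, ← Matrix.mul_assoc (ct σ Z) V, ← Matrix.mul_assoc (ct σ V) Z,
      ← Matrix.mul_assoc (ct σ V) V, hf.zz, hf.zv, e2, Matrix.zero_mul, Matrix.mul_zero, Matrix.one_mul,
      Matrix.mul_one, add_zero, zero_add]
    exact h.add_self_mat _
  · rw [ct_add, ct_mul, ct_ct σ h.conj]
    simp only [Matrix.add_mul, Matrix.mul_add, Matrix.mul_assoc, hf.vv, ← Matrix.mul_assoc (ct σ Z) Z,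
      ← Matrix.mul_assoc (ct σ Z) V, ← Matrix.mul_assoc (ct σ V) Z, ← Matrix.mul_assoc (ct σ V) V, hf.zz, hf.zv, e2,
      Matrix.zero_mul, Matrix.mul_zero, Matrix.one_mul, Matrix.mul_one, add_zero, zero_add]
  · rw [cW]; simp only [Matrix.add_mul, Matrix.mul_assoc]

/-- The tridiagonal matrix with diagonal `0, …, 0, 1`. -/
def tri : (l : ℕ) → Matrix (Fin (l + 1)) (Fin (l + 1)) F
  | 0 => 1
  | l + 1 => bordered 0 (Pi.single 0 1) (Pi.single 0 1) (tri l)

theorem tri_entries : ∀ (l : ℕ) (i j : Fin (l + 1)), (tri (F := F) l) i j = tri l j i ∧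
    ((tri (F := F) l) i j = 0 ∨ (tri (F := F) l) i j = 1) ∧ ((j : ℕ) + 1 < i → (tri (F := F) l) i j = 0) ∧
    ((i : ℕ) = j + 1 → (tri (F := F) l) i j = 1)
  | 0, i, j => by
    rw [Fin.fin_one_eq_zero i, Fin.fin_one_eq_zero j]; simp [tri]
  | l + 1, i, j => by
    induction i using Fin.cases with
    | zero =>
      induction j using Fin.cases with
      | zero => simp [tri, bordered]
      | succ j => simp [tri, bordered, Pi.single_apply]; tauto
    | succ i =>
      induction j using Fin.cases with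
      | zero =>
        simp [tri, bordered, Pi.single_apply]
        refine ⟨em' _, fun e e' => ?_⟩
        rw [e'] at e; simp at e
      | succ j =>
        have := tri_entries l i j
        simpa [tri, bordered] using this

theorem tri_ones (h : F4 σ) : ∀ l : ℕ, (tri (F := F) l) *ᵥ (fun _ => 1) = Pi.single 0 1
  | 0 => by ext i; rw [Fin.fin_one_eq_zero i]; simp [tri]
  | l + 1 => by
    have ih := tri_ones h l
    ext i
    induction i using Fin.cases with
    | zero => simp [tri, bordered, Matrix.mulVec, dotProduct, Fin.sum_univ_succ, Pi.single_apply]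
    | succ i =>
      have e := congrFun ih i
      simp only [Matrix.mulVec, dotProduct, mul_one] at e
      simp [tri, bordered, Matrix.mulVec, dotProduct, Fin.sum_univ_succ, e, Pi.single_apply, Fin.succ_ne_zero]
      split_ifs <;> simp [h.add_self]

theorem det_bordered_tri (h : F4 σ) (a : F) (l : ℕ) :
    (bordered a (Pi.single 0 1) (Pi.single 0 1) (tri l)).det = (a + 1) * (tri (F := F) l).det := by
  obtain ⟨C, hC⟩ : ∃ C : Matrix (Fin (l + 1 + 1)) (Fin (l + 1 + 1)) F, C = bordered 1 0 (fun _ => 1) 1 := ⟨_, rfl⟩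
  have hCd : C.det = 1 := by
    rw [hC, det_of_lowerTriangular _ (fun i j hij => ?_)]
    · refine Finset.prod_eq_one fun i _ => ?_
      induction i using Fin.cases <;> simp [bordered]
    · have hij' : i < j := hij
      induction i using Fin.cases <;> induction j using Fin.cases
      · simp at hij'
      · simp [bordered]
      · simp at hij'
      · rename_i i j
        simp [bordered, (Fin.succ_lt_succ_iff.1 hij').ne]
  have e : bordered a (Pi.single 0 1) (Pi.single 0 1) (tri l) * C = bordered (a + 1) (Pi.single 0 1) 0 (tri l) := by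
    rw [hC, RegularProduct.bordered_mul, tri_ones h]
    congr 1
    · simp [dotProduct, Pi.single_apply]
    · simp
    · simp [← two_smul F, h.two]
    · simp
  have := congrArg det e
  rw [det_mul, hCd, mul_one] at this
  rw [this, det_succ_column_zero, Fin.sum_univ_succ]
  simp [show (bordered (a + 1) (Pi.single 0 1) 0 (tri (F := F) l)).submatrix Fin.succ Fin.succ = tri l from by
    ext i j; simp [bordered]]

theorem det_tri (h : F4 σ) : ∀ l : ℕ, (tri (F := F) l).det = 1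
  | 0 => det_one
  | l + 1 => by rw [tri, det_bordered_tri h, det_tri h l]; simp

theorem hess_mul {m : ℕ} {N Φ : Matrix (Fin m) (Fin m) F} (h1 : ∀ i j : Fin m, (j : ℕ) + 1 < i → N i j = 0)
    (h2 : ∀ j l : Fin m, l < j → Φ j l = 0) :
    (∀ i j : Fin m, (j : ℕ) + 1 < i → (N * Φ) i j = 0) ∧
      ∀ i j : Fin m, (i : ℕ) = j + 1 → (N * Φ) i j = N i j * Φ j j := by
  refine ⟨fun i j hij => ?_, fun i j hij => ?_⟩
  · rw [Matrix.mul_apply]
    refine Finset.sum_eq_zero fun k _ => ?_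
    rcases lt_or_ge j k with hk | hk
    · rw [h2 k j hk, mul_zero]
    · rw [h1 i k (by omega), zero_mul]
  · rw [Matrix.mul_apply, Finset.sum_eq_single j]
    · intro k _ hk
      rcases lt_or_gt_of_ne hk with hk | hk
      · rw [h1 i k (by omega), zero_mul]
      · rw [h2 k j hk, mul_zero]
    · simp

/-- With no middle part an invertible corner has determinant one. -/
theorem det_corner (h : F4 σ) {g : Matrix (Fin n) (Fin n) F} (hg : UStd σ g) (hdet : g.det = 1)
    {α β : Type*} [Fintype α] [DecidableEq α] [Fintype β] [DecidableEq β] [IsEmpty β] {V : Matrix (Fin n) α F}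
    {Z : Matrix (Fin n) β F} {W : Matrix (Fin n) α F} (hf : Fr σ V Z W) (hcard : Fintype.card (α ⊕ (β ⊕ α)) = n)
    (ha : IsUnit (ct σ W * g * V)) : (ct σ W * g * V).det = 1 := by
  obtain ⟨ai, hai⟩ := ha.exists_right_inv
  obtain ⟨hM, hMd, -⟩ := hf.matrix h.conj hcard hg
  obtain ⟨X₀, Y₀, c', f', i', -, -, hMNU, hi', -⟩ := exists_factor σ h.conj hM hai
  rw [hMNU, det_mul, det_blk_lower, det_blk_upper, hdet] at hMd
  simp only [det_one, one_mul, Matrix.det_isEmpty] at hMd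
  have e := congrArg det hi'
  rw [det_mul, det_ct, det_one] at e
  have hfix : σ (ct σ W * g * V).det = (ct σ W * g * V).det := by
    have : σ (ct σ W * g * V).det * ((ct σ W * g * V).det * i'.det) = (ct σ W * g * V).det := by
      rw [mul_left_comm, e, mul_one]
    rwa [hMd, mul_one] at this
  refine (h.fixed hfix).resolve_left fun e0 => ?_
  rw [e0, map_zero, zero_mul] at e
  exact zero_ne_one e

/-- The case of odd dimension at least seven. -/
theorem good_odd (h : F4 σ) {g : Matrix (Fin n) (Fin n) F} (hg : UStd σ g) {r : ℕ} (hr : 3 ≤ r)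
    (hn : 2 * r + 1 = n) (hf : Flag σ g r) : Good σ g := by
  obtain ⟨l, V, Z, W, hfr, hl, hWgV, hZgV, hΦ1, hΦ2, -⟩ := exists_base h hg hf
  obtain rfl : l = 1 := by omega
  obtain ⟨p, rfl⟩ : ∃ p, r = p + 1 + 1 := ⟨r - 2, by omega⟩
  obtain ⟨Φ, hΦ⟩ : ∃ Φ, Φ = ct σ V * g * V := ⟨_, rfl⟩
  have hd : Φ.det ≠ 0 := by
    rw [hΦ, det_of_upperTriangular (fun i j hij => hΦ1 i j hij)]
    exact Finset.prod_ne_zero_iff.2 fun i _ => hΦ2 i
  obtain ⟨x, hx⟩ : ∃ x, x = Φ.det⁻¹ + 1 := ⟨_, rfl⟩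
  obtain ⟨N, hN⟩ : ∃ N : Matrix (Fin (p + 1 + 1)) (Fin (p + 1 + 1)) F,
      N = bordered x (Pi.single 0 1) (Pi.single 0 1) (tri p) := ⟨_, rfl⟩
  obtain ⟨U, hU⟩ : ∃ U : Matrix (Fin 1) (Fin (p + 1 + 1)) F,
      U = Matrix.of fun _ j => if j = 0 then x + σ x else 0 := ⟨_, rfl⟩
  have hc : σ (x + σ x) * (x + σ x) = x + σ x := by
    rcases h.fixed (show σ (x + σ x) = x + σ x by rw [map_add, h.conj, add_comm]) with e | e <;> rw [e] <;> simp
  have hNU : N + ct σ N = ct σ U * U := by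
    ext i j
    rw [Matrix.add_apply, ct_apply, Matrix.mul_apply, Fin.sum_univ_one, ct_apply, hN, hU, Matrix.of_apply, Matrix.of_apply]
    have ht : ∀ a b, tri (F := F) p a b + σ (tri (F := F) p b a) = 0 := fun a b => by
      obtain ⟨e1, e2, -⟩ := tri_entries (F := F) p a b
      rw [← e1]
      rcases e2 with e | e <;> rw [e] <;> simp [h.add_self]
    induction i using Fin.cases <;> induction j using Fin.cases
    · simp [bordered]; rw [← map_add, hc]
    · simp [bordered, Pi.single_apply, Fin.succ_ne_zero]; split_ifs <;> simp [h.add_self]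
    · simp [bordered, Pi.single_apply, Fin.succ_ne_zero]; split_ifs <;> simp [h.add_self]
    · simp [bordered, Fin.succ_ne_zero, ht]
  obtain ⟨hfr', ha⟩ := shift_frame h hfr g hNU
  rw [hWgV, hZgV, Matrix.mul_zero, add_zero, zero_add, ← hΦ] at ha
  refine ⟨_, 1, _, _, _, hfr', le_rfl, hl, by omega, ?_, fun e => absurd e (by omega), fun _ => ?_⟩
  · rw [ha, det_mul, hN, det_bordered_tri h, det_tri h, hx, add_assoc, h.add_self, add_zero, mul_one,
      inv_mul_cancel₀ hd]
  · rw [ha]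
    have hh : ∀ i j : Fin (p + 1 + 1), ((j : ℕ) + 1 < i → N i j = 0) ∧ ((i : ℕ) = j + 1 → N i j = 1) := fun i j => by
      rw [hN]
      induction i using Fin.cases with
      | zero => exact ⟨fun e => by simp at e, fun e => by simp at e⟩
      | succ i =>
        induction j using Fin.cases with
        | zero =>
          refine ⟨fun e => ?_, fun e => ?_⟩
          · have : i ≠ 0 := fun e' => by rw [e'] at e; simp at e
            simp [bordered, this]
          · have : i = 0 := Fin.ext (by simpa using e)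
            simp [bordered, this]
        | succ j =>
          obtain ⟨-, -, e1, e2⟩ := tri_entries (F := F) p i j
          simp only [bordered, Fin.val_succ] at *
          exact ⟨fun e => by simpa using e1 (by omega), fun e => by simpa using e2 (by omega)⟩
    obtain ⟨e1, e2⟩ := hess_mul (Φ := Φ) (fun i j => (hh i j).1) (fun j l hlj => hΦ ▸ hΦ1 j l hlj)
    exact fun i j => ⟨e1 i j, fun e => by rw [e2 i j e, (hh i j).2 e, one_mul, hΦ]; exact hΦ2 j⟩

/-- Dimensions four and five. -/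
theorem good_two (h : F4 σ) {g : Matrix (Fin n) (Fin n) F} (hg : UStd σ g) (hdet : g.det = 1)
    (hn : n = 4 ∨ n = 5) (hf : Flag σ g 2) : Good σ g := by
  classical
  obtain ⟨l, V, Z, W, hfr, hl, hWgV, hZgV, hΦ1, hΦ2, -⟩ := exists_base h hg hf
  obtain ⟨Φ, hΦ⟩ : ∃ Φ, Φ = ct σ V * g * V := ⟨_, rfl⟩
  rw [← hΦ] at hΦ1 hΦ2
  have hΦ10 : Φ 1 0 = 0 := hΦ1 1 0 (by decide)
  obtain ⟨δ, hδ⟩ : ∃ δ, δ = (Φ 0 0 * Φ 1 1)⁻¹ := ⟨_, rfl⟩
  have hp := hΦ2 0
  have hr := hΦ2 1
  have hdΦ : Φ.det = Φ 0 0 * Φ 1 1 := by rw [det_fin_two, hΦ10]; ring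
  have mk : ∀ (N : Matrix (Fin 2) (Fin 2) F) (U : Matrix (Fin l) (Fin 2) F), N + ct σ N = ct σ U * U →
      N.det = δ → (N * Φ).trace ≠ 0 → Good σ g := by
    intro N U hNU hNd ht
    obtain ⟨hfr', ha⟩ := shift_frame h hfr g hNU
    rw [hWgV, hZgV, Matrix.mul_zero, add_zero, zero_add, ← hΦ] at ha
    refine ⟨2, l, _, _, _, hfr', by omega, hl, le_rfl, ?_, fun _ => ?_, fun e => absurd e (by omega)⟩
    · rw [ha, det_mul, hNd, hdΦ, hδ, inv_mul_cancel₀ (mul_ne_zero hp hr)]
    · rwa [ha]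
  have herm : ∀ x y b : F, σ x = x → σ y = y → σ b = b →
      !![x, b; b, y] + ct σ !![x, b; b, y] = ct σ (0 : Matrix (Fin l) (Fin 2) F) * (0 : Matrix (Fin l) (Fin 2) F) := by
    intro x y b hx hy hb
    rw [ct_zero, Matrix.zero_mul]
    ext i j
    fin_cases i <;> fin_cases j <;> simp [ct, hx, hy, hb, h.add_self]
  by_cases hδ1 : δ = 1
  · by_cases h11 : Φ 0 0 = 1 ∧ Φ 1 1 = 1
    · by_cases hq : Φ 0 1 = 0
      · refine mk _ 0 (herm 1 0 1 (map_one σ) (map_zero σ) (map_one σ)) (by rw [det_fin_two, hδ1]; simp [h.neg_eq]) ?_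
        simp [Matrix.trace, Fin.sum_univ_two, Matrix.mul_apply, -Matrix.cons_mul, hq, h11.1, hΦ10]
      · refine mk _ 0 (herm 0 0 1 (map_zero σ) (map_zero σ) (map_one σ)) (by rw [det_fin_two, hδ1]; simp [h.neg_eq]) ?_
        simp [Matrix.trace, Fin.sum_univ_two, Matrix.mul_apply, -Matrix.cons_mul, hΦ10, hq]
    · refine mk _ 0 (herm 1 1 0 (map_one σ) (map_one σ) (map_zero σ)) (by rw [det_fin_two, hδ1]; simp) ?_
      simp [Matrix.trace, Fin.sum_univ_two, Matrix.mul_apply, -Matrix.cons_mul]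
      intro e
      have e1 : Φ 0 0 = Φ 1 1 := by linear_combination e - Φ 1 1 * h.two
      have e2 : Φ 1 1 * Φ 1 1 = 1 := by
        have h3 := hδ.symm.trans hδ1
        rw [inv_eq_one, e1] at h3
        exact h3
      have e3 : Φ 1 1 = 1 := by
        have : (Φ 1 1 - 1) * (Φ 1 1 - 1) = 0 := by linear_combination e2 + (1 - Φ 1 1) * h.two
        exact sub_eq_zero.1 (mul_self_eq_zero.1 this)
      exact h11 ⟨e1.trans e3, e3⟩
  · have hl1 : l = 1 := by
      by_contra hl1
      obtain rfl : l = 0 := by omega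
      apply hδ1
      obtain ⟨hfr', ha⟩ := shift_frame h hfr g (N := 1) (U := (0 : Matrix (Fin 0) (Fin 2) F)) (by
        rw [ct_one, ct_zero, Matrix.zero_mul, h.add_self_mat])
      rw [hWgV, hZgV, Matrix.mul_zero (ct σ (0 : Matrix (Fin 0) (Fin 2) F)), add_zero, zero_add, ← hΦ,
        Matrix.one_mul] at ha
      have hu : IsUnit Φ := by
        rw [isUnit_iff_isUnit_det, hdΦ]; exact isUnit_iff_ne_zero.2 (mul_ne_zero hp hr)
      have := det_corner h hg hdet hfr' (by simp; omega) (ha ▸ hu)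
      rw [ha, hdΦ] at this
      rw [hδ, this, inv_one]
    subst hl1
    have hc : σ (δ + σ δ) * (δ + σ δ) = δ + σ δ := by
      rcases h.fixed (show σ (δ + σ δ) = δ + σ δ by rw [map_add, h.conj, add_comm]) with e | e <;> rw [e] <;> simp
    have sq_one : ∀ x : F, x * x = 1 → x = 1 := fun x hx => by
      have : (x - 1) * (x - 1) = 0 := by linear_combination hx + (1 - x) * h.two
      exact sub_eq_zero.1 (mul_self_eq_zero.1 this)
    by_cases h1 : Φ 1 1 = 1
    · refine mk !![1, 0; 0, δ] !![0, δ + σ δ] ?_ (by rw [det_fin_two]; simp) ?_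
      · ext i j; fin_cases i <;> fin_cases j <;> (simp [ct, Matrix.mul_apply, h.add_self, -Matrix.cons_mul]; try rw [← map_add, hc])
      · simp [Matrix.trace, Fin.sum_univ_two, Matrix.mul_apply, -Matrix.cons_mul, h1]
        intro e
        apply hδ1
        rw [hδ, h1, mul_one] at e ⊢
        have e1 : Φ 0 0 * Φ 0 0 = 1 := by
          field_simp at e
          linear_combination e - h.two
        rw [sq_one _ e1, inv_one]
    · refine mk !![δ, 0; 0, 1] !![δ + σ δ, 0] ?_ (by rw [det_fin_two]; simp) ?_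
      · ext i j; fin_cases i <;> fin_cases j <;> (simp [ct, Matrix.mul_apply, h.add_self, -Matrix.cons_mul]; try rw [← map_add, hc])
      · simp [Matrix.trace, Fin.sum_univ_two, Matrix.mul_apply, -Matrix.cons_mul]
        intro e
        apply h1
        rw [hδ] at e
        field_simp at e
        exact sq_one _ (by linear_combination e - h.two)

theorem hess_left {m : ℕ} {a : Matrix (Fin (m + 1)) (Fin (m + 1)) F} (ha : IsH a) {y : Fin (m + 1) → F}
    (hy : ∀ j, ∑ i, y i * a i j = 0) (h0 : y 0 = 0) : y = 0 := by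
  suffices hs : ∀ (k : ℕ) (hk : k < m + 1), y ⟨k, hk⟩ = 0 from funext fun i => hs i i.2
  intro k
  induction k using Nat.strong_induction_on with
  | _ k ih =>
    intro hk
    rcases Nat.eq_zero_or_pos k with rfl | hk0
    · exact h0
    have e := hy ⟨k - 1, by omega⟩
    rw [Finset.sum_eq_single ⟨k, hk⟩] at e
    · exact (mul_eq_zero.1 e).resolve_right ((ha _ _).2 (by simp; omega))
    · intro i _ hi
      rcases Nat.lt_or_ge (i : ℕ) k with hik | hik
      · rw [show y i = 0 from ih i hik i.2, zero_mul]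
      · rw [(ha i _).1 (by
          have : (i : ℕ) ≠ k := fun e' => hi (Fin.ext e')
          show k - 1 + 1 < i
          omega), mul_zero]
    · simp

theorem hess_right {m : ℕ} {a : Matrix (Fin (m + 1)) (Fin (m + 1)) F} (ha : IsH a) {z : Fin (m + 1) → F}
    (hz : ∀ i, i ≠ 0 → (a *ᵥ z) i = 0) (hl : z (Fin.last m) = 0) : z = 0 := by
  suffices hs : ∀ (k : ℕ) (hk : k < m + 1), z ⟨m - k, by omega⟩ = 0 from funext fun i => by
    simpa [show m - (m - (i : ℕ)) = i by omega] using hs (m - i) (by omega)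
  intro k
  induction k using Nat.strong_induction_on with
  | _ k ih =>
    intro hk
    rcases Nat.eq_zero_or_pos k with rfl | hk0
    · exact (congrArg z (Fin.ext (by simp))).trans hl
    have e := hz ⟨m - k + 1, by omega⟩ (fun e => by rw [Fin.ext_iff] at e; simp at e)
    rw [Matrix.mulVec, dotProduct, Finset.sum_eq_single ⟨m - k, by omega⟩] at e
    · exact (mul_eq_zero.1 e).resolve_left ((ha _ _).2 rfl)
    · intro j _ hj
      rcases Nat.lt_or_ge (j : ℕ) (m - k) with hjk | hjk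
      · rw [(ha _ _).1 (by show (j : ℕ) + 1 < m - k + 1; omega), zero_mul]
      · have : (j : ℕ) ≠ m - k := fun e' => hj (Fin.ext e')
        have := ih (m - j) (by omega) (by omega)
        rw [show (⟨m - (m - (j : ℕ)), by omega⟩ : Fin (m + 1)) = j from Fin.ext (by simp; omega)] at this
        rw [this, mul_zero]
    · simp

/-- The case of even dimension at least six. -/
theorem good_even (h : F4 σ) {g : Matrix (Fin n) (Fin n) F} (hg : UStd σ g) (hdet : g.det = 1) {r : ℕ}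
    (hr : 2 ≤ r) (hn : 2 * r + 2 = n) (hf : Flag σ g r) : Good σ g := by
  classical
  obtain ⟨l, V₀, Z₀, W₀, hfr₀, hl, hWgV, hZgV, hΦ1, hΦ2, -⟩ := exists_base h hg hf
  obtain rfl : l = 2 := by omega
  obtain ⟨w, hw⟩ := h.exists_w
  obtain ⟨A, hA⟩ : ∃ A : Matrix (Fin 2) (Fin 1) F, A = !![1; 1] := ⟨_, rfl⟩
  obtain ⟨B, hB⟩ : ∃ B : Matrix (Fin 2) (Fin 1) F, B = !![w; w + 1] := ⟨_, rfl⟩
  have hAA : ct σ A * A = 0 := by
    ext i j; fin_cases i; fin_cases j; simp [hA, ct, Matrix.mul_apply, Fin.sum_univ_two, h.add_self]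
  have hBB : ct σ B * B = 0 := by
    ext i j; fin_cases i; fin_cases j
    simp [hB, ct, Matrix.mul_apply, Fin.sum_univ_two, hw.conj h]
    linear_combination (2 * w + w ^ 2 + 1) * h.two
  have hBA : ct σ B * A = 1 := by
    ext i j; fin_cases i; fin_cases j
    simp [hA, hB, ct, Matrix.mul_apply, Fin.sum_univ_two, hw.conj h]
    linear_combination (w + 1) * h.two
  obtain ⟨e, he⟩ : ∃ e : Fin (r + 1) ≃ Fin r ⊕ Fin 1, e = finSumFinEquiv.symm := ⟨_, rfl⟩
  obtain ⟨V, hV⟩ : ∃ V, V = (fromCols V₀ (Z₀ * A)).submatrix id e := ⟨_, rfl⟩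
  obtain ⟨W, hW⟩ : ∃ W, W = (fromCols W₀ (Z₀ * B)).submatrix id e := ⟨_, rfl⟩
  obtain ⟨Z, hZ⟩ : ∃ Z : Matrix (Fin n) (Fin 0) F, Z = Matrix.of fun _ j => j.elim0 := ⟨_, rfl⟩
  have e2 : ct σ V₀ * Z₀ = 0 := by rw [← ct_zero σ, ← hfr₀.zv, ct_mul, ct_ct σ h.conj]
  have e3 : ct σ W₀ * Z₀ = 0 := by rw [← ct_zero σ, ← hfr₀.zw, ct_mul, ct_ct σ h.conj]
  have hz : ∀ {a b : Type} (R : Matrix (Fin 2) a F) (S : Matrix (Fin 2) b F),
      ct σ (Z₀ * R) * (Z₀ * S) = ct σ R * S := fun R S => by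
    rw [ct_mul, Matrix.mul_assoc, ← Matrix.mul_assoc (ct σ Z₀), hfr₀.zz, Matrix.one_mul]
  have hfr : Fr σ V Z W := by
    have h0 : Fr σ (fromCols V₀ (Z₀ * A)) Z (fromCols W₀ (Z₀ * B)) := by
      have cc : ∀ (X : Matrix (Fin n) (Fin r) F) (Y : Matrix (Fin n) (Fin 1) F),
          ct σ (fromCols X Y) = fromRows (ct σ X) (ct σ Y) := fun X Y => by ext (i | i) j <;> simp [ct_apply]
      refine ⟨?_, ?_, ?_, ?_, ?_, ?_⟩
      · rw [cc, fromRows_mul_fromCols, hfr₀.vv, hz, hAA, ← Matrix.mul_assoc, e2, Matrix.zero_mul, ct_mul,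
          Matrix.mul_assoc, hfr₀.zv, Matrix.mul_zero, fromBlocks_zero]
      · rw [cc, fromRows_mul_fromCols, hfr₀.wv, hz, hBA, ← Matrix.mul_assoc, e3, Matrix.zero_mul, ct_mul,
          Matrix.mul_assoc, hfr₀.zv, Matrix.mul_zero, fromBlocks_one]
      · rw [cc, fromRows_mul_fromCols, hfr₀.ww, hz, hBB, ← Matrix.mul_assoc, e3, Matrix.zero_mul, ct_mul,
          Matrix.mul_assoc, hfr₀.zw, Matrix.mul_zero, fromBlocks_zero]
      · ext i; exact i.elim0
      · ext i; exact i.elim0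
      · ext i; exact i.elim0
    rw [hV, hW]; exact h0.reindex e
  obtain ⟨a0, ha0⟩ : ∃ a0, a0 = ct σ W * g * V := ⟨_, rfl⟩
  obtain ⟨Φ, hΦ⟩ : ∃ Φ, Φ = ct σ V * g * V := ⟨_, rfl⟩
  have hcol : ∀ l : Fin r, (fun k => V k (Fin.castSucc l)) = fun k => V₀ k l := fun l => by
    funext k
    rw [hV, submatrix_apply, he, show finSumFinEquiv.symm (Fin.castSucc l) = Sum.inl l from
      finSumFinEquiv_symm_apply_castAdd l]
    rfl
  have hWcol : ∀ l : Fin r, (fun k => W k (Fin.castSucc l)) = fun k => W₀ k l := fun l => by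
    funext k
    rw [hW, submatrix_apply, he, show finSumFinEquiv.symm (Fin.castSucc l) = Sum.inl l from
      finSumFinEquiv_symm_apply_castAdd l]
    rfl
  have hlastV : (fun k => V k (Fin.last r)) = fun k => (Z₀ * A) k 0 := by
    funext k
    rw [hV, submatrix_apply, he, show finSumFinEquiv.symm (Fin.last r) = Sum.inr (0 : Fin 1) from
      finSumFinEquiv_symm_apply_natAdd 0]
    rfl
  have hlastW : (fun k => W k (Fin.last r)) = fun k => (Z₀ * B) k 0 := by
    funext k
    rw [hW, submatrix_apply, he, show finSumFinEquiv.symm (Fin.last r) = Sum.inr (0 : Fin 1) from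
      finSumFinEquiv_symm_apply_natAdd 0]
    rfl
  have hzg : ∀ (R : Matrix (Fin 2) (Fin 1) F) (l : Fin r),
      fh σ (g *ᵥ fun k => V₀ k l) (fun k => (Z₀ * R) k 0) = 0 := fun R l => by
    rw [← fh_ct, ct_mul, Matrix.mul_assoc (ct σ R), Matrix.mul_assoc (ct σ R), hZgV, Matrix.mul_zero]; rfl
  have hA0 : ∀ i (j : Fin r), a0 i (Fin.castSucc j) = 0 := fun i j => by
    rw [ha0, fh_ct, hcol]
    induction i using Fin.lastCases with
    | last => rw [hlastW]; exact hzg B j
    | cast i => rw [hWcol, ← fh_ct, hWgV]; rfl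
  have hΦlow : ∀ j l : Fin (r + 1), l < j → Φ j l = 0 := fun j l hlj => by
    rw [hΦ, fh_ct]
    induction l using Fin.lastCases with
    | last => exact absurd hlj (not_lt.2 (Fin.le_last j))
    | cast l =>
      rw [hcol]
      induction j using Fin.lastCases with
      | last => rw [hlastV]; exact hzg A l
      | cast j => rw [hcol, ← fh_ct]; exact hΦ1 j l (Fin.castSucc_lt_castSucc_iff.1 hlj)
  have hΦdiag : ∀ j : Fin r, Φ (Fin.castSucc j) (Fin.castSucc j) ≠ 0 := fun j => by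
    rw [hΦ, fh_ct, hcol, ← fh_ct]; exact hΦ2 j
  obtain ⟨p, rfl⟩ : ∃ p, r = p + 1 := ⟨r - 1, by omega⟩
  have trial : ∀ c : F, (c = 0 ∨ c = 1) → ∃ (W' : Matrix (Fin n) (Fin (p + 1 + 1)) F) (Z' : Matrix (Fin n) (Fin 0) F),
      Fr σ V Z' W' ∧ ct σ W' * g * V = a0 + bordered c (Pi.single 0 1) (Pi.single 0 1) (tri p) * Φ ∧
      IsH (a0 + bordered c (Pi.single 0 1) (Pi.single 0 1) (tri p) * Φ) := by
    intro c hc
    have hσc : σ c = c := by rcases hc with rfl | rfl <;> simp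
    obtain ⟨N, hN⟩ : ∃ N : Matrix (Fin (p + 1 + 1)) (Fin (p + 1 + 1)) F,
        N = bordered c (Pi.single 0 1) (Pi.single 0 1) (tri p) := ⟨_, rfl⟩
    have hNU : N + ct σ N = ct σ (0 : Matrix (Fin 0) (Fin (p + 1 + 1)) F) * (0 : Matrix (Fin 0) (Fin (p + 1 + 1)) F) := by
      rw [Matrix.mul_zero]
      have ht : ∀ a b, tri (F := F) p a b + σ (tri (F := F) p b a) = 0 := fun a b => by
        obtain ⟨e1, e2, -⟩ := tri_entries (F := F) p a b
        rw [← e1]
        rcases e2 with e | e <;> rw [e] <;> simp [h.add_self]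
      ext i j
      rw [Matrix.add_apply, ct_apply, hN]
      induction i using Fin.cases <;> induction j using Fin.cases
      · simp [bordered, hσc, h.add_self]
      · simp [bordered, Pi.single_apply]; split_ifs <;> simp [h.add_self]
      · simp [bordered, Pi.single_apply]; split_ifs <;> simp [h.add_self]
      · simp [bordered, ht]
    obtain ⟨hfr', ha⟩ := shift_frame h hfr g hNU
    rw [ct_zero, Matrix.zero_mul, add_zero, ← ha0, ← hΦ, hN] at ha
    refine ⟨_, _, hfr', by rw [← hN] at ha ⊢; exact ha, ?_⟩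
    have hh : ∀ i j : Fin (p + 1 + 1), ((j : ℕ) + 1 < i → N i j = 0) ∧ ((i : ℕ) = j + 1 → N i j = 1) := fun i j => by
      rw [hN]
      induction i using Fin.cases with
      | zero => exact ⟨fun e => by simp at e, fun e => by simp at e⟩
      | succ i =>
        induction j using Fin.cases with
        | zero =>
          refine ⟨fun e => ?_, fun e => ?_⟩
          · have : i ≠ 0 := fun e' => by rw [e'] at e; simp at e
            simp [bordered, this]
          · have : i = 0 := Fin.ext (by simpa using e)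
            simp [bordered, this]
        | succ j =>
          obtain ⟨-, -, e1, e2⟩ := tri_entries (F := F) p i j
          simp only [bordered, Fin.val_succ] at *
          exact ⟨fun e => by simpa using e1 (by omega), fun e => by simpa using e2 (by omega)⟩
    obtain ⟨e1, e2⟩ := hess_mul (Φ := Φ) (fun i j => (hh i j).1) hΦlow
    rw [← hN]
    intro i j
    have hjlt : (j : ℕ) + 1 ≤ i → ∃ j' : Fin (p + 1), j = Fin.castSucc j' := fun hji =>
      ⟨⟨j, by omega⟩, Fin.ext rfl⟩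
    refine ⟨fun hji => ?_, fun hji => ?_⟩
    · obtain ⟨j', rfl⟩ := hjlt hji.le
      rw [Matrix.add_apply, hA0, zero_add, e1 i _ hji]
    · obtain ⟨j', rfl⟩ := hjlt hji.ge
      rw [Matrix.add_apply, hA0, zero_add, e2 i _ hji, (hh i _).2 hji, one_mul]
      exact hΦdiag j'
  have mk : ∀ (W' : Matrix (Fin n) (Fin (p + 1 + 1)) F) (Z' : Matrix (Fin n) (Fin 0) F), Fr σ V Z' W' →
      IsH (ct σ W' * g * V) → IsUnit (ct σ W' * g * V) → Good σ g := fun W' Z' hf hH hu =>
    ⟨_, 0, V, Z', W', hf, zero_le_one, by omega, by omega, det_corner h hg hdet hf (by simp; omega) hu,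
      fun e => absurd e (by omega), fun _ => hH⟩
  obtain ⟨W₁, Z₁, hf1, ha1, hH1⟩ := trial 0 (Or.inl rfl)
  obtain ⟨W₂, Z₂, hf2, ha2, hH2⟩ := trial 1 (Or.inr rfl)
  rw [← ha1] at hH1
  rw [← ha2] at hH2
  by_cases hu1 : IsUnit (ct σ W₁ * g * V)
  · exact mk W₁ Z₁ hf1 hH1 hu1
  refine mk W₂ Z₂ hf2 hH2 ?_
  obtain ⟨a, ha⟩ : ∃ a, a = ct σ W₁ * g * V := ⟨_, rfl⟩
  obtain ⟨a', ha'⟩ : ∃ a', a' = ct σ W₂ * g * V := ⟨_, rfl⟩
  rw [← ha] at hu1 hH1
  rw [← ha'] at hH2 ⊢
  have hrow : a' = a + Matrix.of fun i j => if i = 0 then Φ 0 j else 0 := by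
    ext i j
    rw [Matrix.add_apply, ha, ha', ha1, ha2]
    simp only [Matrix.add_apply, Matrix.mul_apply, Matrix.of_apply, add_assoc]
    congr 1
    induction i using Fin.cases with
    | zero => simp [bordered, Fin.sum_univ_succ]; ring
    | succ i => simp [bordered, Fin.sum_univ_succ, Fin.succ_ne_zero]
  rw [isUnit_iff_isUnit_det, isUnit_iff_ne_zero]
  intro hd'
  obtain ⟨x, hx0, hx⟩ : ∃ x, x ≠ 0 ∧ a *ᵥ x = 0 := by
    rw [isUnit_iff_isUnit_det, isUnit_iff_ne_zero, not_not] at hu1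
    exact Matrix.exists_mulVec_eq_zero_iff.2 hu1
  obtain ⟨x', hx'0, hx'⟩ := Matrix.exists_mulVec_eq_zero_iff.2 hd'
  have hxl : x (Fin.last (p + 1)) ≠ 0 := fun e => hx0 (hess_right hH1 (fun i _ => by rw [hx]; rfl) e)
  have hrows : ∀ i, i ≠ 0 → (a *ᵥ x') i = 0 := fun i hi => by
    have := congrFun hx' i
    rw [hrow, Matrix.add_mulVec, Pi.add_apply] at this
    simpa [Matrix.mulVec, dotProduct, hi] using this
  have hxx : x' = (x' (Fin.last (p + 1)) / x (Fin.last (p + 1))) • x := by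
    refine sub_eq_zero.1 (hess_right hH1 (fun i hi => ?_) ?_)
    · rw [Matrix.mulVec_sub, Matrix.mulVec_smul, hx]; simp [hrows i hi]
    · simp [hxl]
  have hc : x' (Fin.last (p + 1)) / x (Fin.last (p + 1)) ≠ 0 := fun e => hx'0 (by rw [hxx, e, zero_smul])
  have hax : a' *ᵥ x = 0 := by
    rw [hxx, Matrix.mulVec_smul] at hx'
    exact (smul_eq_zero.1 hx').resolve_left hc
  have hy0 : (Φ *ᵥ x) 0 = 0 := by
    have := congrFun hax 0
    rw [hrow, Matrix.add_mulVec, hx, zero_add] at this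
    simpa [Matrix.mulVec, dotProduct] using this
  have hy : Φ *ᵥ x = 0 := by
    obtain ⟨hM, -, -⟩ := hf1.matrix h.conj (by simp; omega) hg
    rw [GUn, ct_blk, gram, blk_mul, blk_mul, blk_inj] at hM
    have rel : ct σ Φ * a + ct σ a * Φ = 0 := by
      simpa [← ha, ← hΦ] using hM.1
    have hrel : ct σ a *ᵥ (Φ *ᵥ x) = 0 := by
      have := congrArg (fun M => M *ᵥ x) rel
      simp only [Matrix.add_mulVec, ← Matrix.mulVec_mulVec, hx, Matrix.mulVec_zero, zero_add, Matrix.zero_mulVec] at this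
      exact this
    funext i
    have hz := hess_left hH1 (y := fun i => σ ((Φ *ᵥ x) i)) (fun j => by
      have := congrArg σ (congrFun hrel j)
      simpa [Matrix.mulVec, dotProduct, ct, h.conj, map_sum, mul_comm] using this) (by simp [hy0])
    have := congrFun hz i
    simpa using this
  -- the image of `V x` would be orthogonal to the whole frame
  apply hx0
  have hVx : g *ᵥ (V *ᵥ x) = 0 := by
    have hgr := hf1.gram_eq h.conj
    have hg1 : gram (F := F) (Fin (p + 1 + 1)) (Fin 0) * ct σ (frameMat V Z₁ W₁) * frameMat V Z₁ W₁ = 1 := by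
      rw [Matrix.mul_assoc, hgr, gram_mul_gram]
    have e' : Fin (p + 1 + 1) ⊕ (Fin 0 ⊕ Fin (p + 1 + 1)) ≃ Fin n := Fintype.equivFinOfCardEq (by simp; omega)
    have h3 := (Matrix.mul_eq_one_comm_of_equiv e').1 hg1
    have h4 : ct σ (frameMat V Z₁ W₁) *ᵥ (g *ᵥ (V *ᵥ x)) = 0 := by
      have v1 : ct σ V *ᵥ (g *ᵥ (V *ᵥ x)) = 0 := by rw [← hy, hΦ]; simp [Matrix.mul_assoc]
      have v3 : ct σ W₁ *ᵥ (g *ᵥ (V *ᵥ x)) = 0 := by rw [← hx, ha]; simp [Matrix.mul_assoc]
      funext i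
      rcases i with i | i | i
      · exact congrFun v1 i
      · exact i.elim0
      · exact congrFun v3 i
    rw [← Matrix.one_mulVec (g *ᵥ (V *ᵥ x)), ← h3, ← Matrix.mulVec_mulVec, ← Matrix.mulVec_mulVec, h4,
      Matrix.mulVec_zero, Matrix.mulVec_zero]
  have e1 : V *ᵥ x = 0 := by
    have := congrArg (fun z => ct σ g *ᵥ z) hVx
    simp only [Matrix.mulVec_zero] at this
    rwa [Matrix.mulVec_mulVec, show ct σ g * g = 1 from hg, Matrix.one_mulVec] at this
  rw [← Matrix.one_mulVec x, ← hf1.wv, ← Matrix.mulVec_mulVec, e1, Matrix.mulVec_zero]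

end CfsgLib.SUComm.Two
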