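import Cfsg.Agent.Lib.Classical.SUComm.Two.Reduce
import Cfsg.Agent.Lib.Classical.SUComm.Step

/-!
# A totally isotropic flag with triangular pairing
-/

set_option autoImplicit false
set_option linter.unusedSectionVars false

namespace CfsgLib.SUComm.Two

open Matrix CfsgLib.Classical

variable {F : Type*} [Field F] [Fintype F] {σ : F →+* F} {n : ℕ}

/-- A totally isotropic family on which `g` pairs triangularly. -/
def Flag (σ : F →+* F) (g : Matrix (Fin n) (Fin n) F) (r : ℕ) : Prop :=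
  ∃ V : Matrix (Fin n) (Fin r) F, ct σ V * V = 0 ∧ (∀ j l : Fin r, l < j → (ct σ V * g * V) j l = 0) ∧
    ∀ j : Fin r, (ct σ V * g * V) j j ≠ 0

theorem not_scalar (hn : 0 < n) {g : Matrix (Fin n) (Fin n) F} (hg : UStd σ g)
    (hdim : ∀ ν : F, ν ≠ 0 → Module.finrank F (eig g ν) < n) :
    ¬ ∃ c : F, ∀ x, Matrix.mulVecLin g x = c • x := by
  rintro ⟨c, hc⟩
  have hc0 : c ≠ 0 := fun e => by
    have h1 := fh_isometry hg (Pi.single ⟨0, hn⟩ 1) (Pi.single ⟨0, hn⟩ 1)
    rw [show g *ᵥ Pi.single ⟨0, hn⟩ 1 = c • Pi.single ⟨0, hn⟩ 1 from hc _, e, zero_smul, fh_zero_left,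
      fh_single_single, if_pos rfl] at h1
    exact zero_ne_one h1
  have : eig g c = ⊤ := eq_top_iff.2 fun x _ => mem_eig.2 (hc x)
  have h2 := hdim c hc0
  rw [this, finrank_top, Module.finrank_fin_fun] at h2
  omega

/-- An isotropic vector orthogonal to a given one and outside two subspaces. -/
theorem exists_iso_outside (h : F4 σ) (hn : 4 ≤ n) {x : Fin n → F} (hx0 : x ≠ 0) (hx : fh σ x x = 0)
    {A₁ A₂ : Submodule F (Fin n → F)} (h₁ : ¬ perp σ (Submodule.span F {x}) ≤ A₁)
    (h₂ : ¬ perp σ (Submodule.span F {x}) ≤ A₂) :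
    ∃ u, fh σ u x = 0 ∧ fh σ u u = 0 ∧ u ∉ A₁ ∧ u ∉ A₂ := by
  obtain ⟨w, hw⟩ := h.exists_w
  have one : ∀ A : Submodule F (Fin n → F), ¬ perp σ (Submodule.span F {x}) ≤ A →
      ∃ u, fh σ u x = 0 ∧ fh σ u u = 0 ∧ u ∉ A := by
    intro A hA
    obtain ⟨y, hy, hyA⟩ := SetLike.not_le_iff_exists.1 hA
    rw [mem_perp_one] at hy
    rcases h.fixed (fh_conj y y h.conj) with h0 | hy1
    · exact ⟨y, hy, h0, hyA⟩
    obtain ⟨W, hW⟩ : ∃ W, W = perp σ (Submodule.span F {x, y}) := ⟨_, rfl⟩
    have hWn : ¬ W ≤ perp σ W := by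
      intro hle
      have h1 := finrank_perp h (Submodule.span F {x, y})
      have h2 : Module.finrank F (Submodule.span F ({x, y} : Set (Fin n → F))) ≤ 2 := by
        classical
        have := finrank_span_finset_le_card (R := F) ({x, y} : Finset (Fin n → F))
        rw [Finset.coe_insert, Finset.coe_singleton] at this
        exact this.trans Finset.card_le_two
      rw [← hW] at h1
      have h3 : W ≤ Submodule.span F {x} := fun z hz => by
        have hz' := hle hz
        rw [hW, perp_perp h] at hz'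
        obtain ⟨a, b, rfl⟩ := Submodule.mem_span_pair.1 hz'
        have := mem_perp_span.1 (hW ▸ hz) y (by simp)
        rw [fh_add_left, fh_smul_left, fh_smul_left, fh_symm h hy, hy1, mul_zero, zero_add, mul_one] at this
        rw [this, zero_smul, add_zero]
        exact Submodule.smul_mem _ _ (Submodule.mem_span_singleton_self x)
      have h4 := Submodule.finrank_mono h3
      rw [finrank_span_singleton hx0] at h4
      omega
    obtain ⟨z, hz, hz1⟩ := exists_aniso h W hWn
    rw [hW] at hz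
    have hzx := mem_perp_span.1 hz x (by simp)
    have hzy := mem_perp_span.1 hz y (by simp)
    by_cases hc : y + z ∈ A
    · refine ⟨y + w • z, ?_, ?_, fun hc' => hyA ?_⟩
      · rw [fh_add_left, fh_smul_left, hy, hzx]; simp
      · rw [fh_add_left, fh_add_right, fh_add_right, fh_smul_left, fh_smul_left, fh_smul_right, fh_smul_right, hy1, hz1,
          hzy, fh_symm h hzy]
        linear_combination h.norm hw.ne_zero + h.two
      · have hz' : z ∈ A := by
          have : (1 - w)⁻¹ • ((y + z) - (y + w • z)) = z := by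
            rw [add_sub_add_left_eq_sub, ← one_smul F z, smul_smul, ← sub_smul, smul_smul, mul_one,
              inv_mul_cancel₀ (sub_ne_zero.2 (hw.ne_one h).symm)]
          exact this ▸ A.smul_mem _ (A.sub_mem hc hc')
        simpa using A.sub_mem hc hz'
    · refine ⟨y + z, ?_, ?_, hc⟩
      · rw [fh_add_left, hy, hzx, add_zero]
      · rw [fh_add_left, fh_add_right, fh_add_right, hy1, hz1, hzy, fh_symm h hzy]
        linear_combination h.two
  obtain ⟨a, hax, haa, haA⟩ := one A₁ h₁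
  obtain ⟨b, hbx, hbb, hbA⟩ := one A₂ h₂
  by_cases ha2 : a ∈ A₂
  · by_cases hb1 : b ∈ A₁
    · obtain ⟨t, ht, e⟩ : ∃ t : F, t ≠ 0 ∧ σ t * fh σ a b + t * fh σ b a = 0 := by
        by_cases h0 : fh σ b a = 0
        · exact ⟨1, one_ne_zero, by rw [h0, fh_symm h h0]; simp⟩
        · refine ⟨(fh σ b a)⁻¹, inv_ne_zero h0, ?_⟩
          rw [map_inv₀, fh_conj _ _ h.conj, inv_mul_cancel₀ (fun e => h0 (fh_symm h e)), inv_mul_cancel₀ h0, h.add_self]
      refine ⟨a + t • b, ?_, ?_, fun hc => haA ?_, fun hc => hbA ?_⟩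
      · rw [fh_add_left, fh_smul_left, hax, hbx]; simp
      · rw [fh_add_left, fh_add_right, fh_add_right, fh_smul_left, fh_smul_left, fh_smul_right, fh_smul_right, haa, hbb]
        linear_combination e
      · simpa using A₁.sub_mem hc (A₁.smul_mem t hb1)
      · have h3 := A₂.sub_mem hc ha2
        rw [add_sub_cancel_left] at h3
        simpa [smul_smul, ht] using A₂.smul_mem t⁻¹ h3
    · exact ⟨b, hbx, hbb, hb1, hbA⟩
  · exact ⟨a, hax, haa, haA, ha2⟩

/-- The expansion along a line. -/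
theorem fh_line (g : Matrix (Fin n) (Fin n) F) (u x : Fin n → F) (t : F) :
    fh σ (g *ᵥ (u + t • x)) (u + t • x) =
      fh σ (g *ᵥ u) u + t * fh σ (g *ᵥ x) u + σ t * fh σ (g *ᵥ u) x + t * σ t * fh σ (g *ᵥ x) x := by
  rw [Matrix.mulVec_add, Matrix.mulVec_smul]
  simp only [fh_add_left, fh_add_right, fh_smul_left, fh_smul_right]
  ring

theorem iso_line (h : F4 σ) {u x : Fin n → F} (hux : fh σ u x = 0) (hu : fh σ u u = 0) (hx : fh σ x x = 0) (t : F) :
    fh σ (u + t • x) (u + t • x) = 0 := by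
  simp [fh_add_left, fh_add_right, fh_smul_left, fh_smul_right, hux, hu, hx, fh_symm h hux]

/-- An isotropic vector with non-zero pairing outside two subspaces. -/
theorem exists_good_vec (h : F4 σ) (hn : 4 ≤ n) (g : Matrix (Fin n) (Fin n) F)
    (hns : ¬ ∃ c : F, ∀ x, Matrix.mulVecLin g x = c • x) (S₁ S₂ : Submodule F (Fin n → F))
    (hS₁ : ∀ x, fh σ x x = 0 → perp σ (Submodule.span F {x}) ≤ S₁ ⊔ Submodule.span F {x} → fh σ (g *ᵥ x) x = 0)
    (hS₂ : ∀ x, fh σ x x = 0 → perp σ (Submodule.span F {x}) ≤ S₂ ⊔ Submodule.span F {x} → fh σ (g *ᵥ x) x = 0) :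
    ∃ v, fh σ v v = 0 ∧ fh σ (g *ᵥ v) v ≠ 0 ∧ v ∉ S₁ ∧ v ∉ S₂ := by
  obtain ⟨x, hx, hB⟩ := exists_iso_vec (Matrix.mulVecLin g) h.card h.frob hns
  rw [Matrix.mulVecLin_apply] at hB
  by_contra hc
  push Not at hc
  have hx0 : x ≠ 0 := fun e => hB (by rw [e]; simp)
  obtain ⟨u, hux, huu, hu₁, hu₂⟩ := exists_iso_outside h hn hx0 hx (fun e => hB (hS₁ x hx e)) fun e => hB (hS₂ x hx e)
  have key : ∀ t : F, fh σ (g *ᵥ (u + t • x)) (u + t • x) = 0 := fun t => by
    by_contra hne
    have hmem : ∀ S : Submodule F (Fin n → F), u ∉ S ⊔ Submodule.span F {x} → u + t • x ∉ S := fun S hS hm => hS (by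
      simpa using (S ⊔ Submodule.span F {x}).sub_mem (Submodule.mem_sup_left hm)
        (Submodule.mem_sup_right (Submodule.smul_mem _ t (Submodule.mem_span_singleton_self x))))
    exact hmem S₂ hu₂ (hc _ (iso_line h hux huu hx t) hne (hmem S₁ hu₁))
  have h0 := key 0
  simp only [zero_smul, add_zero] at h0
  refine hB (h.three_trick (p := fh σ (g *ᵥ x) u) (r := fh σ (g *ᵥ u) x) fun t ht => ?_).2.2
  have e := key t
  rw [fh_line, h0, h.norm ht] at e
  linear_combination e

theorem fh_cols (h : F4 σ) {k : ℕ} {Z : Matrix (Fin n) (Fin k) F} (hZ : ct σ Z * Z = 1) (x y : Fin k → F) :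
    fh σ (Z *ᵥ x) (Z *ᵥ y) = fh σ x y := by
  have e : ∀ {m : ℕ} (x y : Fin m → F), fh σ x y = (fun i => σ (y i)) ⬝ᵥ x := fun x y => by
    simp [fh, dotProduct, mul_comm]
  rw [e, e, show (fun i => σ ((Z *ᵥ y) i)) = (Z.map σ) *ᵥ (fun i => σ (y i)) from funext fun i => by
    simp [Matrix.mulVec, dotProduct]]
  rw [← Matrix.vecMul_transpose, ← Matrix.dotProduct_mulVec, Matrix.mulVec_mulVec,
    show (Z.map σ)ᵀ * Z = 1 from hZ, Matrix.one_mulVec]

theorem fh_col_left (h : F4 σ) {k : ℕ} {Z : Matrix (Fin n) (Fin k) F} {y : Fin n → F}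
    (hy : ct σ Z *ᵥ y = 0) (x : Fin k → F) : fh σ (Z *ᵥ x) y = 0 := by
  refine fh_symm h ?_
  have e : ∀ {m : ℕ} (x y : Fin m → F), fh σ x y = (fun i => σ (y i)) ⬝ᵥ x := fun x y => by
    simp [fh, dotProduct, mul_comm]
  rw [e, show (fun i => σ ((Z *ᵥ x) i)) = (Z.map σ) *ᵥ (fun i => σ (x i)) from funext fun i => by
    simp [Matrix.mulVec, dotProduct]]
  rw [← Matrix.vecMul_transpose, ← Matrix.dotProduct_mulVec, show (Z.map σ)ᵀ = ct σ Z from rfl, hy,
    dotProduct_zero]

theorem ct_mulVec_apply {k : ℕ} (Z : Matrix (Fin n) (Fin k) F) (y : Fin n → F) (i : Fin k) :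
    (ct σ Z *ᵥ y) i = fh σ y fun a => Z a i := by
  simp [Matrix.mulVec, dotProduct, ct, fh, mul_comm]

/-- One step down. -/
theorem exists_down (h : F4 σ) {g : Matrix (Fin n) (Fin n) F} (hg : UStd σ g) {v : Fin n → F}
    (hv : fh σ v v = 0) (hα : fh σ (g *ᵥ v) v ≠ 0) :
    ∃ (l : ℕ) (Z : Matrix (Fin n) (Fin l) F), 2 + l = n ∧ ct σ Z * Z = 1 ∧ ct σ Z *ᵥ v = 0 ∧
      ct σ Z *ᵥ (g *ᵥ v) = 0 ∧ UStd σ (ct σ Z * g * Z) ∧
      (∀ x, ∃ c : F, g *ᵥ (Z *ᵥ x) = Z *ᵥ ((ct σ Z * g * Z) *ᵥ x) + c • g *ᵥ v) ∧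
      (∀ y, fh σ y v = 0 → fh σ y (g *ᵥ v) = 0 → Z *ᵥ (ct σ Z *ᵥ y) = y) ∧
      (g.det = 1 → (ct σ Z * g * Z).det = fh σ (g *ᵥ v) v) ∧
      ∀ ν : F, ν ≠ 0 → Module.finrank F (eig (ct σ Z * g * Z) ν) ≤ Module.finrank F (eig g ν) + 1 ∧
        (v ∉ perp σ (eig g ν) → Module.finrank F (eig (ct σ Z * g * Z) ν) + 1 ≤ Module.finrank F (eig g ν)) := by
  obtain ⟨α, hαdef⟩ : ∃ α, α = fh σ (g *ᵥ v) v := ⟨_, rfl⟩
  rw [← hαdef] at hα
  obtain ⟨a, ha⟩ : ∃ a, a = g *ᵥ v := ⟨_, rfl⟩
  rw [← ha] at hαdef ⊢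
  have haa : fh σ a a = 0 := by rw [ha, fh_isometry hg, hv]
  have hva : fh σ v a = σ α := by rw [hαdef, fh_conj _ _ h.conj]
  have hσα : σ α ≠ 0 := (map_ne_zero σ).2 hα
  obtain ⟨w, hw⟩ := h.exists_w
  have hw2 : w * w = w + 1 := hw
  obtain ⟨p, hp⟩ : ∃ p, p = (w / σ α) • v + a := ⟨_, rfl⟩
  obtain ⟨q, hq⟩ : ∃ q, q = ((w + 1) / σ α) • v + a := ⟨_, rfl⟩
  have gen : ∀ c d : F, fh σ (c • v + a) (d • v + a) = c * σ α + σ d * α := fun c d => by
    rw [fh_add_left, fh_add_right, fh_add_right, fh_smul_left, fh_smul_left, fh_smul_right, fh_smul_right, hv, haa,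
      hva, ← hαdef]
    ring
  have hpp : fh σ p p = 1 := by
    rw [hp, gen, map_div₀, h.conj, hw.conj h]; field_simp; linear_combination w * h.two
  have hqq : fh σ q q = 1 := by
    rw [hq, gen, map_div₀, h.conj, map_add, map_one, hw.conj h]; field_simp; linear_combination (w + 1) * h.two
  have hpq : fh σ p q = 0 := by
    rw [hp, hq, gen, map_div₀, h.conj, map_add, map_one, hw.conj h]; field_simp; linear_combination (w + 1) * h.two
  have hvp : v = σ α • (p + q) := by
    rw [hp, hq, show (w / σ α) • v + a + (((w + 1) / σ α) • v + a) = (w / σ α + (w + 1) / σ α) • v + ((1 : F) + 1) • a by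
      module, h.add_self, zero_smul, add_zero, smul_smul,
      show σ α * (w / σ α + (w + 1) / σ α) = 1 by field_simp; linear_combination w * h.two, one_smul]
  have hap : a = p - (w / σ α) • v := by rw [hp]; abel
  obtain ⟨P, hP⟩ : ∃ P : Matrix (Fin n) (Fin 2) F, P = Matrix.of fun k i => ![p, q] i k := ⟨_, rfl⟩
  have hPP : ct σ P * P = 1 := by
    ext i j
    rw [fh_mulVec h, hP]
    fin_cases i <;> fin_cases j <;> simp [hpp, hqq, hpq, fh_symm h hpq]
  obtain ⟨l, Z, hl, hZ, hZP⟩ := exists_completion h hPP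
  rw [Fintype.card_fin] at hl
  have hperp : ∀ y, y = p ∨ y = q → ct σ Z *ᵥ y = 0 := by
    intro y hy
    funext i
    rw [ct_mulVec_apply]
    have e0 := congrFun (congrFun hZP i) 0
    have e1 := congrFun (congrFun hZP i) 1
    rw [fh_mulVec h, hP] at e0 e1
    rcases hy with rfl | rfl
    · exact e0
    · exact e1
  have hZv : ct σ Z *ᵥ v = 0 := by
    rw [hvp, Matrix.mulVec_smul, Matrix.mulVec_add, hperp p (Or.inl rfl), hperp q (Or.inr rfl)]; simp
  have hZa : ct σ Z *ᵥ a = 0 := by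
    rw [hap, Matrix.mulVec_sub, Matrix.mulVec_smul, hZv, hperp p (Or.inl rfl)]; simp
  have hcomplete : ∀ y, fh σ y v = 0 → fh σ y a = 0 → Z *ᵥ (ct σ Z *ᵥ y) = y := by
    intro y hyv hya
    have e : Fin 2 ⊕ Fin l ≃ Fin n := finSumFinEquiv.trans (finCongr hl)
    obtain ⟨Q, hQ⟩ : ∃ Q, Q = fromCols P Z := ⟨_, rfl⟩
    have hQc : ct σ Q = fromRows (ct σ P) (ct σ Z) := by rw [hQ]; ext (i | i) j <;> simp [ct_apply]
    have hPZ : ct σ P * Z = 0 := by rw [← ct_zero σ, ← hZP, ct_mul, ct_ct σ h.conj]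
    have hQQ : ct σ Q * Q = 1 := by rw [hQc, hQ, fromRows_mul_fromCols, hPP, hPZ, hZP, hZ, fromBlocks_one]
    have h1 : Q * ct σ Q = 1 := (Matrix.mul_eq_one_comm_of_equiv e).1 hQQ
    rw [hQc, hQ, fromCols_mul_fromRows] at h1
    have h2 : ct σ P *ᵥ y = 0 := by
      have hy1 : fh σ y p = 0 := by rw [hp, fh_add_right, fh_smul_right, hyv, hya]; simp
      have hy2 : fh σ y q = 0 := by rw [hq, fh_add_right, fh_smul_right, hyv, hya]; simp
      funext i
      rw [ct_mulVec_apply, hP]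
      fin_cases i
      · exact hy1
      · exact hy2
    conv_rhs => rw [← Matrix.one_mulVec y, ← h1]
    rw [Matrix.add_mulVec, ← Matrix.mulVec_mulVec, h2, Matrix.mulVec_zero, zero_add, Matrix.mulVec_mulVec]
  obtain ⟨G, hG⟩ : ∃ G, G = ct σ Z * g * Z := ⟨_, rfl⟩
  have hdec : ∀ x, g *ᵥ (Z *ᵥ x) = Z *ᵥ (G *ᵥ x) + (fh σ (g *ᵥ (Z *ᵥ x)) v / α) • a := by
    intro x
    have hZG : Z *ᵥ (G *ᵥ x) = Z *ᵥ (ct σ Z *ᵥ (g *ᵥ (Z *ᵥ x))) := by simp [hG, Matrix.mul_assoc]
    obtain ⟨y, hy⟩ : ∃ y, y = g *ᵥ (Z *ᵥ x) := ⟨_, rfl⟩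
    have hya : fh σ y a = 0 := by rw [hy, ha, fh_isometry hg]; exact fh_col_left h hZv x
    have e := hcomplete (y - (fh σ y v / α) • a) (by
      rw [fh_sub_left, fh_smul_left, ← hαdef, div_mul_cancel₀ _ hα, sub_self]) (by
      rw [fh_sub_left, fh_smul_left, haa, hya]; simp)
    rw [Matrix.mulVec_sub, Matrix.mulVec_smul, hZa, smul_zero, sub_zero] at e
    rw [hZG, ← hy, e]; abel
  have hGu : UStd σ G := by
    have key : ∀ x y, fh σ (G *ᵥ x) (G *ᵥ y) = fh σ x y := fun x y => by
      rw [← fh_cols h hZ, ← fh_cols h hZ x y, ← fh_isometry hg (Z *ᵥ x), hdec x, hdec y]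
      simp only [fh_add_left, fh_add_right, fh_smul_left, fh_smul_right, haa,
        fh_col_left h hZa, fh_symm h (fh_col_left h hZa _)]
      ring
    ext i j
    rw [fh_mulVec h, Matrix.one_apply]
    have := key (Pi.single j 1) (Pi.single i 1)
    rw [Matrix.mulVec_single_one, Matrix.mulVec_single_one, fh_single_single] at this
    rw [← show (if j = i then (1 : F) else 0) = if i = j then 1 else 0 from by simp [eq_comm], ← this]
    rfl
  rw [hG] at hGu
  refine ⟨l, Z, hl, hZ, hZv, hZa, hGu, fun x => ⟨_, hG ▸ hdec x⟩, hcomplete, fun hdet => ?_, fun ν hν => ?_⟩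
  all_goals rw [← hG]
  · -- the determinant
    obtain ⟨N, hN⟩ : ∃ N : Matrix (Fin 2 ⊕ Fin l) (Fin n) F, N = fromRows
        (Matrix.of fun i k => ![α⁻¹ * σ (v k), (σ α)⁻¹ * σ (a k)] i) (ct σ Z) := ⟨_, rfl⟩
    obtain ⟨M, hM⟩ : ∃ M : Matrix (Fin n) (Fin 2 ⊕ Fin l) F,
        M = fromCols (Matrix.of fun k i => ![a k, v k] i) Z := ⟨_, rfl⟩
    have ent : ∀ (X : Matrix (Fin n) (Fin n) F) (i : Fin 2 ⊕ Fin l) (j : Fin 2 ⊕ Fin l),
        (N * X * M) i j = Sum.elim (fun i => ![α⁻¹ * fh σ (X *ᵥ fun k => M k j) v,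
          (σ α)⁻¹ * fh σ (X *ᵥ fun k => M k j) a] i) (fun i => (ct σ Z *ᵥ (X *ᵥ fun k => M k j)) i) i := by
      intro X i j
      rw [Matrix.mul_assoc, Matrix.mul_apply]
      simp only [col_ext]
      rcases i with i | i
      · fin_cases i <;> simp [hN, fh, Finset.mul_sum, mul_left_comm, mul_comm, mul_assoc]
      · simp [hN, Matrix.mulVec, dotProduct]
    have hcZ : ∀ j, (fun k => M k (Sum.inr j)) = Z *ᵥ Pi.single j 1 := fun j => by
      rw [Matrix.mulVec_single_one, hM]; rfl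
    have hc0 : (fun k => M k (Sum.inl 0)) = a := by rw [hM]; rfl
    have hc1 : (fun k => M k (Sum.inl 1)) = v := by rw [hM]; rfl
    have hNM : N * M = 1 := by
      ext i j
      have e := ent 1 i j
      simp only [Matrix.mul_one, Matrix.one_mulVec] at e
      rw [e]
      rcases i with i | i <;> rcases j with j | j
      · fin_cases i <;> fin_cases j <;>
          simp [show (fun k => M k (Sum.inl 0)) = a from hc0, show (fun k => M k (Sum.inl 1)) = v from hc1, hv, haa,
            hva, ← hαdef, hα, hσα]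
      · rw [hcZ]
        fin_cases i <;> simp [fh_col_left h hZv, fh_col_left h hZa, Matrix.mulVec_single_one ]
        all_goals exact Or.inr (by rw [← Matrix.mulVec_single_one]; first | exact fh_col_left h hZv _ | exact fh_col_left h hZa _)
      · fin_cases j <;>
          simp [show (fun k => M k (Sum.inl 0)) = a from hc0, show (fun k => M k (Sum.inl 1)) = v from hc1, hZv, hZa]
      · rw [hcZ]
        simp only [Sum.elim_inr]
        rw [Matrix.mulVec_mulVec, hZ, Matrix.one_mulVec]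
        simp [Matrix.one_apply, Pi.single_apply]
    obtain ⟨H, hH⟩ : ∃ H : Matrix (Fin 2) (Fin 2) F,
        H = !![α⁻¹ * fh σ (g *ᵥ a) v, 1; (σ α)⁻¹ * α, 0] := ⟨_, rfl⟩
    obtain ⟨E, hE⟩ : ∃ E : Matrix (Fin l) (Fin 2) F,
        E = Matrix.of fun i j => if j = 0 then (ct σ Z *ᵥ (g *ᵥ a)) i else 0 := ⟨_, rfl⟩
    obtain ⟨Y, hY⟩ : ∃ Y : Matrix (Fin 2) (Fin l) F,
        Y = Matrix.of fun i j => if i = 0 then 0 else fh σ (g *ᵥ (Z *ᵥ Pi.single j 1)) v / α := ⟨_, rfl⟩
    have hT : N * g * M = fromBlocks H 0 E G * fromBlocks 1 Y 0 1 := by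
      rw [fromBlocks_multiply]
      ext i j
      rw [ent g i j]
      rcases i with i | i <;> rcases j with j | j
      · fin_cases i <;> fin_cases j <;>
          simp [show (fun k => M k (Sum.inl 0)) = a from hc0, show (fun k => M k (Sum.inl 1)) = v from hc1, hH, ← ha,
            haa, ← hαdef, hα, show fh σ (g *ᵥ a) a = α by rw [hαdef]; nth_rw 2 [ha]; rw [fh_isometry hg]]
      · rw [hcZ]
        fin_cases i <;>
          simp [hH, hY, Matrix.mul_apply, Fin.sum_univ_two, -Matrix.cons_mul, -Matrix.mulVec_mulVec, div_eq_inv_mul]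
        refine Or.inr ?_
        rw [ha, fh_isometry hg, ← Matrix.mulVec_single_one]
        exact fh_col_left h hZv _
      · fin_cases j <;>
          simp [show (fun k => M k (Sum.inl 0)) = a from hc0, show (fun k => M k (Sum.inl 1)) = v from hc1, hE, ← ha, hZa,
            -Matrix.mulVec_mulVec]
      · rw [hcZ]
        simp only [Sum.elim_inr, fromBlocks_apply₂₂]
        rw [Matrix.mulVec_mulVec, Matrix.mulVec_mulVec, Matrix.mulVec_single_one, ← hG, Matrix.mul_one]
        have : (E * Y) i j = 0 := by simp [hE, hY, Matrix.mul_apply, Fin.sum_univ_two]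
        simp [this]
    have e := congrArg det hT
    have e' : Fintype.card (Fin 2 ⊕ Fin l) = n := by simp; omega
    have eq : Fin 2 ⊕ Fin l ≃ Fin n := Fintype.equivFinOfCardEq e'
    have hMN : M * N = 1 := (Matrix.mul_eq_one_comm_of_equiv eq).1 hNM
    have h2 : (N * g * M).det = 1 := by
      rw [← det_submatrix_equiv_self eq.symm,
        show (N * g * M).submatrix eq.symm eq.symm = N.submatrix eq.symm id * g * M.submatrix id eq.symm by
          ext i j; simp [Matrix.mul_apply],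
        det_mul, det_mul, hdet, mul_one, mul_comm, ← det_mul, ← Matrix.submatrix_mul _ _ _ _ _ eq.symm.bijective,
        hMN, submatrix_id_id, det_one]
    rw [h2, det_mul, det_fromBlocks_zero₁₂, det_fromBlocks_zero₂₁, det_one, det_one, mul_one, mul_one, hH,
      det_fin_two] at e
    simp [h.neg_eq] at e
    field_simp at e
    rw [h.frob] at e
    rw [← hαdef]
    exact mul_left_cancel₀ hα (by linear_combination -e)
  · -- the eigenspaces
    have hinj : Function.Injective (Matrix.mulVecLin Z) := fun x y e => by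
      have := congrArg (fun z => ct σ Z *ᵥ z) e
      simpa [Matrix.mulVec_mulVec, hZ] using this
    obtain ⟨M, hM⟩ : ∃ M, M = (eig G ν).map (Matrix.mulVecLin Z) := ⟨_, rfl⟩
    have hMd : Module.finrank F M = Module.finrank F (eig G ν) := by
      rw [hM]; exact ((eig G ν).equivMapOfInjective _ hinj).finrank_eq.symm
    obtain ⟨K, hK⟩ : ∃ K, K = perp σ (Submodule.span F {ct σ g *ᵥ v}) := ⟨_, rfl⟩
    have hKd : n ≤ Module.finrank F K + 1 := by
      have := finrank_perp h (Submodule.span F {ct σ g *ᵥ v})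
      have := finrank_span_le_one (F := F) (ct σ g *ᵥ v)
      rw [← hK] at *
      omega
    have hKm : ∀ y, y ∈ K ↔ fh σ (g *ᵥ y) v = 0 := fun y => by
      rw [hK, mem_perp_one]
      conv_lhs => rw [← fh_isometry hg, Matrix.mulVec_mulVec, hg.right, Matrix.one_mulVec]
    have hMK : M ⊓ K ≤ eig g ν ⊓ perp σ (Submodule.span F {v}) := by
      rintro _ ⟨hyM, hyK⟩
      rw [hM] at hyM
      obtain ⟨x, hx, rfl⟩ := hyM
      rw [Matrix.mulVecLin_apply] at hyK ⊢
      have hx' : G *ᵥ x = ν • x := mem_eig.1 hx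
      refine ⟨mem_eig.2 ?_, mem_perp_one.2 (fh_col_left h hZv x)⟩
      rw [hdec x, (hKm _).1 hyK, hx', Matrix.mulVec_smul, zero_div, zero_smul, add_zero]
    have hd1 := Submodule.finrank_mono hMK
    constructor
    · have h1 := Submodule.finrank_sup_add_finrank_inf_eq M K
      have h2 := Submodule.finrank_le (M ⊔ K)
      rw [Module.finrank_fin_fun] at h2
      have h3 := Submodule.finrank_mono (inf_le_left : eig g ν ⊓ perp σ (Submodule.span F {v}) ≤ _)
      omega
    · intro hnv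
      have hle : M ≤ K := by
        intro y hy
        rw [hKm]
        rw [hM] at hy
        obtain ⟨x, hx, rfl⟩ := hy
        rw [Matrix.mulVecLin_apply]
        have hx' : G *ᵥ x = ν • x := mem_eig.1 hx
        by_contra hc
        apply hnv
        rw [mem_perp]
        intro e he
        have h1 := fh_eig h hg hν he (Z *ᵥ x)
        rw [hdec x, hx', Matrix.mulVec_smul, fh_add_left, fh_smul_left, fh_smul_left, ha, fh_eig h hg hν he v] at h1
        have h2 : fh σ (g *ᵥ (Z *ᵥ x)) v / α * (ν * fh σ v e) = 0 := by linear_combination h1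
        exact (mul_eq_zero.1 ((mul_eq_zero.1 h2).resolve_left (div_ne_zero hc hα))).resolve_left hν
      rw [inf_eq_left.2 hle] at hd1
      have hlt : eig g ν ⊓ perp σ (Submodule.span F {v}) < eig g ν := by
        refine lt_of_le_of_ne inf_le_left fun e => hnv ?_
        rw [mem_perp]
        intro x hx
        refine fh_symm h ?_
        rw [← e] at hx
        exact mem_perp_one.1 hx.2
      have := Submodule.finrank_lt_finrank_of_lt hlt
      omega

theorem Flag.cons (h : F4 σ) {g : Matrix (Fin n) (Fin n) F} (hg : UStd σ g) {v : Fin n → F} (hv : fh σ v v = 0)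
    (hα : fh σ (g *ᵥ v) v ≠ 0) {l : ℕ} {Z : Matrix (Fin n) (Fin l) F} (hZ : ct σ Z * Z = 1)
    (hZv : ct σ Z *ᵥ v = 0) (hZa : ct σ Z *ᵥ (g *ᵥ v) = 0) {r : ℕ} (hf : Flag σ (ct σ Z * g * Z) r) :
    Flag σ g (r + 1) := by
  obtain ⟨U, hU0, hU1, hU2⟩ := hf
  obtain ⟨V, hV⟩ : ∃ V : Matrix (Fin n) (Fin (r + 1)) F,
      V = Matrix.of fun k i => (Fin.cons v (fun j => Z *ᵥ fun a => U a j) : Fin (r + 1) → Fin n → F) i k := ⟨_, rfl⟩
  have hc0 : (fun k => V k 0) = v := by rw [hV]; rfl
  have hcs : ∀ j : Fin r, (fun k => V k j.succ) = Z *ᵥ fun a => U a j := fun j => by rw [hV]; rfl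
  have hphi : ∀ j l, (ct σ V * g * V) j l = fh σ (g *ᵥ fun k => V k l) (fun k => V k j) := fun j l => fh_ct g V V j l
  have hinner : ∀ j l : Fin r, (ct σ U * (ct σ Z * g * Z) * U) j l =
      fh σ (g *ᵥ (Z *ᵥ fun a => U a l)) (Z *ᵥ fun a => U a j) := fun j l => by
    have e : ct σ U * (ct σ Z * g * Z) * U = ct σ (Z * U) * g * (Z * U) := by
      rw [ct_mul]; simp only [Matrix.mul_assoc]
    rw [e, fh_ct]
    rfl
  refine ⟨V, ?_, fun j l hjl => ?_, fun j => ?_⟩
  · ext a b
    rw [fh_mulVec h]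
    induction a using Fin.cases with
    | zero =>
      induction b using Fin.cases with
      | zero => rw [hc0, hv]; rfl
      | succ b => rw [hcs, hc0, fh_col_left h hZv]; rfl
    | succ a =>
      induction b using Fin.cases with
      | zero => rw [hcs, hc0]; exact fh_symm h (fh_col_left h hZv _)
      | succ b =>
        rw [hcs, hcs, fh_cols h hZ, ← fh_mulVec h, hU0]; rfl
  · rw [hphi]
    induction j using Fin.cases with
    | zero => exact absurd hjl (Fin.not_lt_zero l)
    | succ j =>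
      induction l using Fin.cases with
      | zero => rw [hc0, hcs]; exact fh_symm h (fh_col_left h hZa _)
      | succ l => rw [hcs, hcs, ← hinner]; exact hU1 j l (Fin.succ_lt_succ_iff.1 hjl)
  · rw [hphi]
    induction j using Fin.cases with
    | zero => rw [hc0]; exact hα
    | succ j => rw [hcs, ← hinner]; exact hU2 j

theorem eig_three (h : F4 σ) {w : F} (hw : IsW w) (g : Matrix (Fin n) (Fin n) F) :
    Module.finrank F (eig g 1) + Module.finrank F (eig g w) + Module.finrank F (eig g (w + 1)) ≤ n := by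
  have h1 : eig g w ⊓ eig g (w + 1) = ⊥ := by
    rw [eq_bot_iff]
    rintro x ⟨ha, hb⟩
    have e : w • x = (w + 1) • x := (mem_eig.1 ha).symm.trans (mem_eig.1 hb)
    rw [add_smul, one_smul, left_eq_add] at e
    simp [e]
  have h2 : eig g 1 ⊓ (eig g w ⊔ eig g (w + 1)) = ⊥ := by
    rw [eq_bot_iff]
    rintro x ⟨ha, hb⟩
    obtain ⟨a, ha', b, hb', rfl⟩ := Submodule.mem_sup.1 hb
    have e0 : g *ᵥ (a + b) = a + b := by simpa using mem_eig.1 ha
    rw [Matrix.mulVec_add, mem_eig.1 ha', mem_eig.1 hb'] at e0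
    have e2 := congrArg (fun z => g *ᵥ z) e0
    simp only [Matrix.mulVec_add, Matrix.mulVec_smul, mem_eig.1 ha', mem_eig.1 hb', smul_smul] at e2
    have hw2 : w * w = w + 1 := hw
    have hw3 : (w + 1) * (w + 1) = w := by linear_combination hw2 + (w + 1) * h.two
    rw [hw2, hw3] at e2
    -- `e0` and `e2` together give `a + b = 0`
    have : a + b = 0 := by
      funext i
      have f0 := congrFun e0 i
      have f2 := congrFun e2 i
      simp only [Pi.add_apply, Pi.smul_apply, smul_eq_mul] at f0 f2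
      show a i + b i = 0
      linear_combination f2 + b i * h.two
    simp [this]
  have e1 := Submodule.finrank_sup_add_finrank_inf_eq (eig g w) (eig g (w + 1))
  have e2 := Submodule.finrank_sup_add_finrank_inf_eq (eig g 1) (eig g w ⊔ eig g (w + 1))
  have e3 := Submodule.finrank_le (eig g 1 ⊔ (eig g w ⊔ eig g (w + 1)))
  rw [h1, finrank_bot] at e1
  rw [h2, finrank_bot] at e2
  rw [Module.finrank_fin_fun] at e3
  omega

/-- Flags exist when no eigenspace is large. -/
theorem exists_flag (h : F4 σ) : ∀ (r n : ℕ) (g : Matrix (Fin n) (Fin n) F), 1 ≤ r → 2 * r + 1 ≤ n → n ≤ 2 * r + 2 →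
    UStd σ g → (∀ ν : F, ν ≠ 0 → Module.finrank F (eig g ν) + r ≤ n) → Flag σ g r
  | 0, _, _, hr, _, _, _, _ => absurd hr (by omega)
  | r + 1, n, g, _, hn, hn', hg, hdim => by
    have hns : ¬ ∃ c : F, ∀ x, Matrix.mulVecLin g x = c • x :=
      not_scalar (by omega) hg fun ν hν => by have := hdim ν hν; omega
    rcases Nat.eq_zero_or_pos r with rfl | hr
    · obtain ⟨v, hv, hα⟩ := exists_iso_vec (Matrix.mulVecLin g) h.card h.frob hns
      obtain ⟨l, Z, -, hZ, hZv, hZa, -⟩ := exists_down h hg hv (by simpa using hα)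
      refine Flag.cons h hg hv (by simpa using hα) hZ hZv hZa ⟨0, ?_, fun j => j.elim0, fun j => j.elim0⟩
      ext a b; exact a.elim0
    classical
    obtain ⟨w, hw⟩ := h.exists_w
    obtain ⟨R, hR⟩ : ∃ R : F → Prop, ∀ ν, R ν ↔ n ≤ Module.finrank F (eig g ν) + r + 2 := ⟨_, fun _ => Iff.rfl⟩
    obtain ⟨S, hS⟩ : ∃ S : F → Submodule F (Fin n → F), ∀ ν, S ν = if R ν then perp σ (eig g ν) else ⊥ :=
      ⟨_, fun _ => rfl⟩
    have hsum := eig_three h hw g
    obtain ⟨a, b, ha, hb, hab⟩ : ∃ a b : F, a ≠ 0 ∧ b ≠ 0 ∧ ∀ ν, ν ≠ 0 → R ν → ν = a ∨ ν = b := by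
      by_cases h1 : R 1
      · by_cases h2 : R w
        · refine ⟨1, w, one_ne_zero, hw.ne_zero, fun ν hν hRν => ?_⟩
          rcases h.cases hw ν with e | e | e | e
          · exact absurd e hν
          · exact Or.inl e
          · exact Or.inr e
          · exfalso
            rw [hR] at h1 h2 hRν
            rw [e] at hRν
            omega
        · refine ⟨1, w + 1, one_ne_zero, hw.succ_ne_zero h, fun ν hν hRν => ?_⟩
          rcases h.cases hw ν with e | e | e | e
          · exact absurd e hν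
          · exact Or.inl e
          · exact absurd (e ▸ hRν) h2
          · exact Or.inr e
      · refine ⟨w, w + 1, hw.ne_zero, hw.succ_ne_zero h, fun ν hν hRν => ?_⟩
        rcases h.cases hw ν with e | e | e | e
        · exact absurd e hν
        · exact absurd (e ▸ hRν) h1
        · exact Or.inl e
        · exact Or.inr e
    have hprop : ∀ μ : F, μ ≠ 0 → ∀ x, fh σ x x = 0 →
        perp σ (Submodule.span F {x}) ≤ S μ ⊔ Submodule.span F {x} → fh σ (g *ᵥ x) x = 0 := by
      intro μ hμ x hx hle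
      by_cases hRμ : R μ
      · rw [hS, if_pos hRμ] at hle
        have h1 : eig g μ ⊓ perp σ (Submodule.span F {x}) ≤ Submodule.span F {x} := by
          intro e he
          rw [← perp_perp h (Submodule.span F {x})]
          intro y hy
          obtain ⟨s, hs, t, ht, rfl⟩ := Submodule.mem_sup.1 (hle hy)
          rw [fh_add_right, fh_symm h (hs e he.1), he.2 t ht, add_zero]
        have h2 := Submodule.finrank_sup_add_finrank_inf_eq (eig g μ) (perp σ (Submodule.span F {x}))
        have h3 := Submodule.finrank_le (eig g μ ⊔ perp σ (Submodule.span F {x}))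
        rw [Module.finrank_fin_fun] at h3
        have h4 := finrank_perp h (Submodule.span F {x})
        have h5 := finrank_span_le_one (F := F) x
        rw [hR] at hRμ
        have hx' : x ∈ eig g μ := by
          obtain ⟨e, he, he0⟩ : ∃ e ∈ eig g μ ⊓ perp σ (Submodule.span F {x}), e ≠ 0 :=
            Submodule.exists_mem_ne_zero_of_ne_bot fun e => by rw [e, finrank_bot] at h2; omega
          obtain ⟨c, rfl⟩ := Submodule.mem_span_singleton.1 (h1 he)
          have hc : c ≠ 0 := fun e => he0 (by simp [e])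
          simpa [smul_smul, hc] using (eig g μ).smul_mem c⁻¹ he.1
        rw [mem_eig.1 hx', fh_smul_left, hx, mul_zero]
      · rw [hS, if_neg hRμ, bot_sup_eq] at hle
        exfalso
        have h4 := finrank_perp h (Submodule.span F {x})
        have h5 := finrank_span_le_one (F := F) x
        have h6 := Submodule.finrank_mono hle
        omega
    obtain ⟨v, hv, hα, hva, hvb⟩ := exists_good_vec h (by omega) g hns (S a) (S b) (hprop a ha) (hprop b hb)
    obtain ⟨l, Z, hl, hZ, hZv, hZa, hGu, -, -, -, hdown⟩ := exists_down h hg hv hα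
    refine Flag.cons h hg hv hα hZ hZv hZa (exists_flag h r l _ hr (by omega) (by omega) hGu fun ν hν => ?_)
    obtain ⟨d1, d2⟩ := hdown ν hν
    by_cases hRν : R ν
    · have : v ∉ perp σ (eig g ν) := by
        rcases hab ν hν hRν with rfl | rfl
        · rwa [hS, if_pos hRν] at hva
        · rwa [hS, if_pos hRν] at hvb
      have := d2 this
      have := hdim ν hν
      omega
    · rw [hR] at hRν
      omega

end CfsgLib.SUComm.Two
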