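import Cfsg.Agent.Lib.Classical.SUComm.Two.Flag

/-!
# Four dimensions
-/

set_option autoImplicit false
set_option linter.unusedSectionVars false

namespace CfsgLib.SUComm.Two

open Matrix CfsgLib.Classical

variable {F : Type*} [Field F] [Fintype F] {σ : F →+* F}

theorem eig_orth (h : F4 σ) {n : ℕ} {g : Matrix (Fin n) (Fin n) F} (hg : UStd σ g) {μ ν : F} (hν : ν ≠ 0)
    (hne : μ ≠ ν) {x y : Fin n → F} (hx : x ∈ eig g μ) (hy : y ∈ eig g ν) : fh σ x y = 0 := by
  have e1 := fh_eig h hg hν hy x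
  rw [mem_eig.1 hx, fh_smul_left] at e1
  exact (mul_eq_zero.1 (show (μ - ν) * fh σ x y = 0 by linear_combination e1)).resolve_left (sub_ne_zero.2 hne)

/-- Two of three eigenvectors are anisotropic. -/
theorem exists_aniso_pair (h : F4 σ) {w : F} (hw : IsW w) {g : Matrix (Fin 4) (Fin 4) F} (hg : UStd σ g)
    (hK : ∀ ν : F, ν ≠ 0 → eig g ν ≠ ⊥) :
    ∃ (μa μb μc : F) (a b c : Fin 4 → F), μa ≠ 0 ∧ μb ≠ 0 ∧ μc ≠ 0 ∧ μb + μc = μa ∧ μa * μb * μc = 1 ∧
      a ∈ eig g μa ∧ b ∈ eig g μb ∧ c ∈ eig g μc ∧ a ≠ 0 ∧ fh σ b b = 1 ∧ fh σ c c = 1 ∧ fh σ b c = 0 ∧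
      fh σ a b = 0 ∧ fh σ a c = 0 := by
  have h2 := h.two
  have hw2 : w * w = w + 1 := hw
  obtain ⟨μ, hμ⟩ : ∃ μ : Fin 3 → F, μ = ![1, w, w + 1] := ⟨_, rfl⟩
  have hμ0 : ∀ i, μ i ≠ 0 := fun i => by
    rw [hμ]; fin_cases i <;> simp [hw.ne_zero, hw.succ_ne_zero h]
  have hne : ∀ i j, i ≠ j → μ i ≠ μ j := by
    intro i j hij
    rw [hμ]
    have a1 := hw.ne_one h
    have a2 := hw.ne_zero
    fin_cases i <;> fin_cases j <;> first | exact absurd rfl hij | skip
    all_goals simp [a1, a2, Ne.symm a1]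
  have hv : ∀ i, ∃ v ∈ eig g (μ i), v ≠ 0 := fun i => Submodule.exists_mem_ne_zero_of_ne_bot (hK _ (hμ0 i))
  choose v hvE hv0 using hv
  have ho : ∀ i j, i ≠ j → fh σ (v i) (v j) = 0 := fun i j hij => eig_orth h hg (hμ0 j) (hne i j hij) (hvE i) (hvE j)
  have hli : LinearIndependent F v := by
    rw [Fintype.linearIndependent_iff]
    intro c hc
    simp only [Fin.sum_univ_three] at hc
    have e2 := congrArg (fun z => g *ᵥ z) hc
    simp only [Matrix.mulVec_add, Matrix.mulVec_smul, mem_eig.1 (hvE _), Matrix.mulVec_zero] at e2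
    have e3 := congrArg (fun z => g *ᵥ z) e2
    simp only [Matrix.mulVec_add, Matrix.mulVec_smul, mem_eig.1 (hvE _), Matrix.mulVec_zero] at e3
    have p0 : (c 0 * ((μ 0 - μ 1) * (μ 0 - μ 2))) • v 0 = 0 := by
      linear_combination (norm := module) e3 - (μ 1 + μ 2) • e2 + (μ 1 * μ 2) • hc
    have p1 : (c 1 * ((μ 1 - μ 0) * (μ 1 - μ 2))) • v 1 = 0 := by
      linear_combination (norm := module) e3 - (μ 0 + μ 2) • e2 + (μ 0 * μ 2) • hc
    have p2 : (c 2 * ((μ 2 - μ 0) * (μ 2 - μ 1))) • v 2 = 0 := by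
      linear_combination (norm := module) e3 - (μ 0 + μ 1) • e2 + (μ 0 * μ 1) • hc
    have z : ∀ {k x y : F} {v : Fin 4 → F}, (k * (x * y)) • v = 0 → v ≠ 0 → x ≠ 0 → y ≠ 0 → k = 0 :=
      fun h1 hv hx hy => (mul_eq_zero.1 ((smul_eq_zero.1 h1).resolve_right hv)).resolve_right (mul_ne_zero hx hy)
    intro i
    fin_cases i
    · exact z p0 (hv0 _) (sub_ne_zero.2 (hne _ _ (by decide))) (sub_ne_zero.2 (hne _ _ (by decide)))
    · exact z p1 (hv0 _) (sub_ne_zero.2 (hne _ _ (by decide))) (sub_ne_zero.2 (hne _ _ (by decide)))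
    · exact z p2 (hv0 _) (sub_ne_zero.2 (hne _ _ (by decide))) (sub_ne_zero.2 (hne _ _ (by decide)))
  have hone : ∀ i j, i ≠ j → fh σ (v i) (v i) = 0 → fh σ (v j) (v j) = 1 := by
    intro i j hij hi
    refine (h.fixed (fh_conj _ _ h.conj)).resolve_left fun hj => ?_
    have hall : ∀ k, fh σ (v i) (v k) = 0 ∧ fh σ (v j) (v k) = 0 := fun k => by
      constructor
      · rcases eq_or_ne i k with rfl | hk
        · exact hi
        · exact ho i k hk
      · rcases eq_or_ne j k with rfl | hk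
        · exact hj
        · exact ho j k hk
    obtain ⟨W, hW⟩ : ∃ W, W = Submodule.span F (Set.range v) := ⟨_, rfl⟩
    have hWd : Module.finrank F W = 3 := by rw [hW, finrank_span_eq_card hli]; rfl
    have hp := finrank_perp h W
    have hmi : v i ∈ perp σ W := by
      rw [hW, mem_perp_span]; rintro _ ⟨k, rfl⟩; exact (hall k).1
    have hmj : v j ∈ perp σ W := by
      rw [hW, mem_perp_span]; rintro _ ⟨k, rfl⟩; exact (hall k).2
    have hspan : Submodule.span F {v i} = perp σ W := by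
      refine Submodule.eq_of_le_of_finrank_eq ((Submodule.span_singleton_le_iff_mem _ _).2 hmi) ?_
      rw [finrank_span_singleton (hv0 i)]; omega
    rw [← hspan] at hmj
    obtain ⟨c, hc⟩ := Submodule.mem_span_singleton.1 hmj
    have e1 : g *ᵥ v j = μ i • v j := by rw [← hc, Matrix.mulVec_smul, mem_eig.1 (hvE i), smul_comm]
    rw [mem_eig.1 (hvE j), ← sub_eq_zero, ← sub_smul] at e1
    exact hv0 j ((smul_eq_zero.1 e1).resolve_left (sub_ne_zero.2 (hne j i hij.symm)))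
  obtain ⟨a, b, c, hab, hac, hbc, hs, hp, hb, hc⟩ : ∃ a b c : Fin 3, a ≠ b ∧ a ≠ c ∧ b ≠ c ∧
      μ b + μ c = μ a ∧ μ a * μ b * μ c = 1 ∧ fh σ (v b) (v b) = 1 ∧ fh σ (v c) (v c) = 1 := by
    rcases h.fixed (fh_conj (v 0) (v 0) h.conj) with h0 | h0
    · refine ⟨0, 1, 2, by decide, by decide, by decide, ?_, ?_, hone 0 1 (by decide) h0, hone 0 2 (by decide) h0⟩
      · rw [hμ]; simp; linear_combination w * h2
      · rw [hμ]; simp; linear_combination hw2 + w * h2
    rcases h.fixed (fh_conj (v 1) (v 1) h.conj) with h1 | h1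
    · refine ⟨1, 0, 2, by decide, by decide, by decide, ?_, ?_, h0, hone 1 2 (by decide) h1⟩
      · rw [hμ]; simp; linear_combination h2
      · rw [hμ]; simp; linear_combination hw2 + w * h2
    · refine ⟨2, 0, 1, by decide, by decide, by decide, ?_, ?_, h0, h1⟩
      · rw [hμ]; simp; ring
      · rw [hμ]; simp; linear_combination hw2 + w * h2
  exact ⟨μ a, μ b, μ c, v a, v b, v c, hμ0 a, hμ0 b, hμ0 c, hs, hp, hvE a, hvE b, hvE c, hv0 a, hb, hc, ho b c hbc,
    ho a b hab, ho a c hac⟩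

/-- In four dimensions. -/
theorem flag_or_isC_four (h : F4 σ) {g : Matrix (Fin 4) (Fin 4) F} (hg : UStd σ g) (hdet : g.det = 1)
    (hdim : ∀ ν : F, ν ≠ 0 → Module.finrank F (eig g ν) ≤ 2) : Flag σ g 2 ∨ IsC σ g := by
  classical
  obtain ⟨w, hw⟩ := h.exists_w
  have hns : ¬ ∃ c : F, ∀ x, Matrix.mulVecLin g x = c • x :=
    not_scalar (by omega) hg fun ν hν => by have := hdim ν hν; omega
  -- a vector with non-scalar middle map suffices
  have good : ∀ v, fh σ v v = 0 → fh σ (g *ᵥ v) v ≠ 0 → Flag σ g 2 ∨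
      (eig g (σ (fh σ (g *ᵥ v) v)) ≠ ⊥ ∧ v ∈ perp σ (eig g (σ (fh σ (g *ᵥ v) v))) ∧
        ∀ y, fh σ y v = 0 → fh σ y (g *ᵥ v) = 0 → ∃ c : F, g *ᵥ y = σ (fh σ (g *ᵥ v) v) • y + c • g *ᵥ v) := by
    intro v hv hα
    obtain ⟨l, Z, hl, hZ, hZv, hZa, hGu, hdec, hcomplete, hGdet, hdown⟩ := exists_down h hg hv hα
    obtain rfl : l = 2 := by omega
    by_cases hsc : ∃ μ : F, ∀ x, Matrix.mulVecLin (ct σ Z * g * Z) x = μ • x
    · obtain ⟨μ, hμ⟩ := hsc
      simp only [Matrix.mulVecLin_apply] at hμ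
      obtain ⟨α, hαd⟩ : ∃ α, α = fh σ (g *ᵥ v) v := ⟨_, rfl⟩
      rw [← hαd] at hα ⊢
      have hG1 : ct σ Z * g * Z = μ • 1 := by
        ext i j
        have := congrFun (hμ (Pi.single j 1)) i
        rw [Matrix.mulVec_single_one] at this
        simpa [Matrix.one_apply, Pi.single_apply] using this
      have hμα : μ = σ α := by
        have e := hGdet hdet
        rw [hG1, ← hαd, det_smul, det_one, mul_one, Fintype.card_fin] at e
        rw [h.frob, ← e]
        linear_combination -h.fourth μ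
      have hμ0 : μ ≠ 0 := hμα ▸ (map_ne_zero σ).2 hα
      have heig : eig (ct σ Z * g * Z) μ = ⊤ := eq_top_iff.2 fun x _ => mem_eig.2 (hμ x)
      obtain ⟨d1, d2⟩ := hdown μ hμ0
      rw [heig, finrank_top, Module.finrank_fin_fun] at d1 d2
      refine Or.inr ⟨fun e => ?_, ?_, fun y hy1 hy2 => ?_⟩
      · rw [hμα, e, finrank_bot] at d1; omega
      · by_contra hnv
        rw [← hμα] at hnv
        have := d2 hnv
        have := hdim μ hμ0
        omega
      · obtain ⟨c, hc⟩ := hdec (ct σ Z *ᵥ y)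
        rw [hμ, Matrix.mulVec_smul, hcomplete y hy1 hy2, hμα] at hc
        exact ⟨c, hc⟩
    · refine Or.inl ?_
      obtain ⟨u, hu, hβ⟩ := exists_iso_vec (Matrix.mulVecLin (ct σ Z * g * Z)) h.card h.frob hsc
      obtain ⟨l', Z', -, hZ', hZ'v, hZ'a, -⟩ := exists_down h hGu hu hβ
      refine Flag.cons h hg hv hα hZ hZv hZa (Flag.cons h hGu hu hβ hZ' hZ'v hZ'a
        ⟨0, ?_, fun j => j.elim0, fun j => j.elim0⟩)
      ext a b; exact a.elim0
  by_cases hK : ∀ ν : F, ν ≠ 0 → eig g ν ≠ ⊥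
  · -- all three eigenvalues occur
    obtain ⟨μa, μb, μc, a, b, c, hμa, hμb, hμc, hsum, hprod, ha, hb, hc, ha0, hbb, hcc, hbc, hab, hac⟩ :=
      exists_aniso_pair h hw hg hK
    obtain ⟨v, hvdef⟩ : ∃ v, v = b + c := ⟨_, rfl⟩
    have hv : fh σ v v = 0 := by
      rw [hvdef, fh_add_left, fh_add_right, fh_add_right, hbb, hcc, hbc, fh_symm h hbc]; linear_combination h.two
    have hgv : g *ᵥ v = μb • b + μc • c := by rw [hvdef, Matrix.mulVec_add, mem_eig.1 hb, mem_eig.1 hc]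
    have hα : fh σ (g *ᵥ v) v = μa := by
      rw [hgv, hvdef, fh_add_left, fh_smul_left, fh_smul_left, fh_add_right, fh_add_right, hbb, hcc, hbc,
        fh_symm h hbc, ← hsum]
      ring
    rcases good v hv (by rw [hα]; exact hμa) with hf | ⟨-, -, hP⟩
    · exact Or.inl hf
    refine Or.inr ?_
    rw [hα] at hP
    have hva : ∀ {y}, fh σ y b = 0 → fh σ y c = 0 → fh σ y v = 0 ∧ fh σ y (g *ᵥ v) = 0 := fun {y} h1 h2 => by
      rw [hgv, hvdef, fh_add_right, fh_add_right, fh_smul_right, fh_smul_right, h1, h2]; simp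
    obtain ⟨ca, hca⟩ := hP a (hva hab hac).1 (hva hab hac).2
    rw [mem_eig.1 ha] at hca
    have h1 := congrArg (fun z => fh σ z v) hca
    simp only [fh_add_left, fh_smul_left, (hva hab hac).1, mul_zero, zero_add, hα] at h1
    rcases mul_eq_zero.1 h1.symm with hc0 | hc0
    swap
    · exact absurd hc0 hμa
    rw [hc0, zero_smul, add_zero] at hca
    have hμa1 : μa = 1 := by
      rw [← sub_eq_zero, ← sub_smul] at hca
      have := (smul_eq_zero.1 hca).resolve_right ha0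
      exact (h.fixed (sub_eq_zero.1 this).symm).resolve_left hμa
    have hμc' : μc = σ μb := by
      rw [hμa1, one_mul] at hprod
      calc μc = (μb * σ μb) * μc := by rw [h.norm hμb, one_mul]
        _ = σ μb * (μb * μc) := by ring
        _ = σ μb := by rw [hprod, mul_one]
    obtain ⟨K, hKdef⟩ : ∃ K : Matrix (Fin 4) (Fin 2) F, K = Matrix.of fun i k => ![b, c] k i := ⟨_, rfl⟩
    have hKon : ct σ K * K = 1 := by
      ext i j
      rw [fh_mulVec h, hKdef]
      fin_cases i <;> fin_cases j <;> simp [hbb, hcc, hbc, fh_symm h hbc]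
    have hgK : g * K = K * !![μb, 0; 0, σ μb] := by
      ext i k
      rw [col_ext, hKdef]
      fin_cases k <;> simp [Matrix.mul_apply, Fin.sum_univ_two, mem_eig.1 hb, mem_eig.1 hc, hμc', mul_comm]
    refine isC_split h hKon hg hdet hgK (isC_pair_diag h hμb) (by rw [det_fin_two]; simp [h.norm hμb])
      fun k Z hk hZ hZK _ _ => ?_
    have e : ct σ Z * g * Z = 1 := by
      ext i j
      rw [fh_ct, Matrix.one_apply]
      have hzb : ∀ j, fh σ (fun r => Z r j) b = 0 ∧ fh σ (fun r => Z r j) c = 0 := fun j => by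
        have e0 := congrFun (congrFun hZK j) 0
        have e1 := congrFun (congrFun hZK j) 1
        rw [fh_mulVec h, hKdef] at e0 e1
        exact ⟨fh_symm h e0, fh_symm h e1⟩
      obtain ⟨c', hc'⟩ := hP _ (hva (hzb j).1 (hzb j).2).1 (hva (hzb j).1 (hzb j).2).2
      rw [hc', fh_add_left, fh_smul_left, fh_smul_left, fh_symm h (hva (hzb i).1 (hzb i).2).2, mul_zero, add_zero,
        hμa1, map_one, one_mul, ← fh_mulVec h, hZ, Matrix.one_apply]
    rw [e]
    exact isC_one _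
  · -- some eigenvalue is missing
    push Not at hK
    obtain ⟨μ0, hμ0, hbot⟩ := hK
    by_contra hcon
    rw [not_or] at hcon
    have H : ∀ v, fh σ v v = 0 → fh σ (g *ᵥ v) v ≠ 0 →
        eig g (σ (fh σ (g *ᵥ v) v)) ≠ ⊥ ∧ v ∈ perp σ (eig g (σ (fh σ (g *ᵥ v) v))) := fun v hv hα =>
      let ⟨h1, h2, _⟩ := (good v hv hα).resolve_left hcon.1
      ⟨h1, h2⟩
    obtain ⟨x, hx, hBx⟩ := exists_iso_vec (Matrix.mulVecLin g) h.card h.frob hns
    rw [Matrix.mulVecLin_apply] at hBx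
    obtain ⟨β, hβ⟩ : ∃ β, β = fh σ (g *ᵥ x) x := ⟨_, rfl⟩
    rw [← hβ] at hBx
    obtain ⟨hE, hxS⟩ := H x hx (hβ ▸ hBx)
    rw [← hβ] at hE hxS
    obtain ⟨μj, hμj⟩ : ∃ μj, μj = σ β := ⟨_, rfl⟩
    rw [← hμj] at hE hxS
    have hμj0 : μj ≠ 0 := hμj ▸ (map_ne_zero σ).2 hBx
    have hx0 : x ≠ 0 := fun e => hBx (by rw [hβ, e]; simp)
    have hnot : ∀ μ : F, eig g μ ≠ ⊥ → ¬ perp σ (Submodule.span F {x}) ≤ perp σ (eig g μ) := by
      intro μ hμ hle
      obtain ⟨e, he, he0⟩ := Submodule.exists_mem_ne_zero_of_ne_bot hμ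
      have : e ∈ Submodule.span F {x} := by
        rw [← perp_perp h (Submodule.span F {x})]
        exact fun y hy => fh_symm h (hle hy e he)
      obtain ⟨c, rfl⟩ := Submodule.mem_span_singleton.1 this
      have hc : c ≠ 0 := fun e => he0 (by simp [e])
      have hxe : x ∈ eig g μ := by simpa [smul_smul, hc] using (eig g μ).smul_mem c⁻¹ he
      exact hBx (by rw [hβ, mem_eig.1 hxe, fh_smul_left, hx, mul_zero])
    have hne0 : μ0 ≠ μj := fun e => hE (e ▸ hbot)
    obtain ⟨μi, hμi⟩ : ∃ μi : F, μi = μ0 + μj := ⟨_, rfl⟩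
    have hμij : μi ≠ μj := fun e => hμ0 (by linear_combination e - hμi)
    have hval : ∀ ν, ν ≠ 0 → eig g ν ≠ ⊥ → ν ≠ μj → ν = μi := by
      intro ν hν hνE hνj
      have hν0 : ν ≠ μ0 := fun e => hνE (e ▸ hbot)
      rw [hμi]
      have e3 := h.cube hν
      have a3 := h.cube hμ0
      have b3 := h.cube hμj0
      have hq : μ0 ^ 2 + μ0 * μj + μj ^ 2 = 0 :=
        mul_left_cancel₀ (sub_ne_zero.2 hne0) (by rw [mul_zero]; linear_combination a3 - b3)
      have : (ν - μ0) * ((ν - μj) * (ν + (μ0 + μj))) = 0 := by linear_combination e3 + (μj - ν) * hq - b3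
      have h' := ((mul_eq_zero.1 this).resolve_left (sub_ne_zero.2 hν0))
      have h'' := (mul_eq_zero.1 h').resolve_left (sub_ne_zero.2 hνj)
      linear_combination h'' - (μ0 + μj) * h.two
    obtain ⟨Si, hSi⟩ : ∃ Si : Submodule F (Fin 4 → F),
        Si = if eig g μi ≠ ⊥ ∧ x ∈ perp σ (eig g μi) then perp σ (eig g μi) else ⊥ := ⟨_, rfl⟩
    obtain ⟨u, hux, huu, huj, hui⟩ := exists_iso_outside h (le_refl 4) hx0 hx (hnot μj hE)
      (show ¬ perp σ (Submodule.span F {x}) ≤ Si by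
        rw [hSi]
        split_ifs with hc
        · exact hnot μi hc.1
        · intro hle
          have := Submodule.finrank_mono hle
          rw [finrank_bot] at this
          have := finrank_perp h (Submodule.span F {x})
          have := finrank_span_le_one (F := F) x
          omega)
    obtain ⟨f, hf⟩ : ∃ f : F → F, ∀ t, f t = fh σ (g *ᵥ (u + t • x)) (u + t • x) := ⟨_, fun _ => rfl⟩
    have hfv : ∀ t, f t ≠ 0 → f t = σ μi ∧ u + t • x ∈ perp σ (eig g μi) ∧ eig g μi ≠ ⊥ := by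
      intro t ht
      rw [hf] at ht ⊢
      obtain ⟨h1, h2⟩ := H _ (iso_line h hux huu hx t) ht
      obtain ⟨ν, hν⟩ : ∃ ν, ν = σ (fh σ (g *ᵥ (u + t • x)) (u + t • x)) := ⟨_, rfl⟩
      rw [← hν] at h1 h2
      have hν0 : ν ≠ 0 := hν ▸ (map_ne_zero σ).2 ht
      have hνj : ν ≠ μj := fun e => by
        rw [e] at h2
        apply huj
        simpa using (perp σ (eig g μj)).sub_mem h2 ((perp σ (eig g μj)).smul_mem t hxS)
      rw [← hval ν hν0 h1 hνj]
      exact ⟨by rw [hν, h.conj], h2, h1⟩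
    have hsum : f 0 + f 1 + f w + f (w + 1) = β := by
      simp only [hf, fh_line, ← hβ, map_zero, map_one, map_add, hw.conj h]
      have hw2 : w * w = w + 1 := hw
      linear_combination (2 * fh σ (g *ᵥ u) u + (w + 1) * fh σ (g *ᵥ x) u + (w + 2) * fh σ (g *ᵥ u) x
        + (2 * w + 1) * β + (w + 1) * β) * h.two + 2 * β * hw2
    have huniq : ∀ s t : F, f s ≠ 0 → f t ≠ 0 → s = t := by
      intro s t hs ht
      by_contra hne
      obtain ⟨-, hs2, hEi⟩ := hfv s hs
      obtain ⟨-, ht2, -⟩ := hfv t ht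
      have hxi : x ∈ perp σ (eig g μi) := by
        have := (perp σ (eig g μi)).smul_mem (s - t)⁻¹ ((perp σ (eig g μi)).sub_mem hs2 ht2)
        rwa [add_sub_add_left_eq_sub, ← sub_smul, smul_smul, inv_mul_cancel₀ (sub_ne_zero.2 hne), one_smul] at this
      apply hui
      rw [hSi, if_pos ⟨hEi, hxi⟩]
      simpa using (perp σ (eig g μi)).sub_mem hs2 ((perp σ (eig g μi)).smul_mem s hxi)
    have hzero : ∀ s : F, f s ≠ 0 → f 0 + f 1 + f w + f (w + 1) = f s := by
      intro s hs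
      have hz : ∀ t, t ≠ s → f t = 0 := fun t ht => by_contra fun h' => ht (huniq t s h' hs)
      have a1 := hw.ne_one h
      have a2 := hw.ne_zero
      rcases h.cases hw s with e | e | e | e <;> rw [e] at hz ⊢
      · rw [hz 1 one_ne_zero, hz w a2, hz (w + 1) (hw.succ_ne_zero h)]; ring
      · rw [hz 0 zero_ne_one, hz w a1, hz (w + 1) (by simpa using a2)]; ring
      · rw [hz 0 (Ne.symm a2), hz 1 (Ne.symm a1), hz (w + 1) (by simp)]; ring
      · rw [hz 0 (Ne.symm (hw.succ_ne_zero h)), hz 1 (fun e => a2 (by linear_combination -e)), hz w (by simp)]; ring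
    by_cases hex : ∃ s, f s ≠ 0
    · obtain ⟨s, hs⟩ := hex
      have e := hsum.symm.trans (hzero s hs)
      rw [(hfv s hs).1] at e
      exact hμij (by rw [hμj, e, h.conj])
    · push Not at hex
      exact hBx (by rw [← hsum, hex, hex, hex, hex]; ring)

end CfsgLib.SUComm.Two
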