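import Cfsg.Agent.Lib.Classical.SUComm.Two.Basic
import Cfsg.Agent.Lib.Classical.SUComm.AMatTwo

/-!
# The linked model: a Hessenberg matrix as a quotient of two cyclic matrices annihilated by a power of
`X² + w X + 1`
-/

set_option autoImplicit false
set_option linter.unusedSectionVars false

namespace CfsgLib.SUComm.Two

open Matrix

variable {F : Type*} [Field F] [Fintype F] {σ : F →+* F} {ι κ : Type*} [Fintype ι] [DecidableEq ι] [Fintype κ]
  [DecidableEq κ]

/-- `M² + w M + 1`. -/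
def gq (w : F) (M : Matrix ι ι F) : Matrix ι ι F := M * M + w • M + 1

theorem sim_symm {A B : Matrix ι ι F} (h : Sim A B) : Sim B A := by
  obtain ⟨S, hS, e⟩ := h
  obtain ⟨u, rfl⟩ := hS
  refine ⟨_, (u⁻¹).isUnit, ?_⟩
  calc B * ((u⁻¹ : (Matrix ι ι F)ˣ) : Matrix ι ι F)
      = ((u⁻¹ : (Matrix ι ι F)ˣ) : Matrix ι ι F) * (u.val * B) * ((u⁻¹ : (Matrix ι ι F)ˣ) : Matrix ι ι F) := by
        rw [← Matrix.mul_assoc, u.inv_mul, Matrix.one_mul]
    _ = ((u⁻¹ : (Matrix ι ι F)ˣ) : Matrix ι ι F) * (A * u.val) * ((u⁻¹ : (Matrix ι ι F)ˣ) : Matrix ι ι F) := by rw [e]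
    _ = _ := by rw [Matrix.mul_assoc, Matrix.mul_assoc A, u.mul_inv, Matrix.mul_one]

theorem sim_submatrix {A B : Matrix ι ι F} (h : Sim A B) (e : κ ≃ ι) :
    Sim (A.submatrix e e) (B.submatrix e e) := by
  obtain ⟨S, hS, h⟩ := h
  exact ⟨S.submatrix e e, (Matrix.isUnit_submatrix_equiv _ _).2 hS, by rw [submatrix_mul_equiv, submatrix_mul_equiv, h]⟩

theorem dec_submatrix {T A : Matrix ι ι F} (h : Dec T A) (e : κ ≃ ι) :
    Dec (T.submatrix e e) (A.submatrix e e) := by
  obtain ⟨P, Q, hP, hQ, h⟩ := h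
  exact ⟨_, _, sim_submatrix hP e, sim_submatrix hQ e, by rw [submatrix_mul_equiv, h]⟩

theorem gq_submatrix (w : F) (M : Matrix ι ι F) (e : κ ≃ ι) : gq w (M.submatrix e e) = (gq w M).submatrix e e := by
  rw [gq, gq, submatrix_mul_equiv]
  ext i j
  simp [Matrix.one_apply]

theorem pow_submatrix (M : Matrix ι ι F) (e : κ ≃ ι) (k : ℕ) : M.submatrix e e ^ k = (M ^ k).submatrix e e := by
  induction k with
  | zero => simp
  | succ k ih => rw [pow_succ, pow_succ, ih, submatrix_mul_equiv]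

theorem commute_gq (w : F) (M : Matrix ι ι F) : Commute M (gq w M) :=
  ((((Commute.refl M).mul_right (Commute.refl M)).add_right ((Commute.refl M).smul_right w)).add_right
    (Commute.one_right M))

theorem isUnit_smul_one {c : F} (hc : c ≠ 0) : IsUnit (c • (1 : Matrix ι ι F)) :=
  isUnit_one.smul (Units.mk0 c hc)

theorem isUnit_nil_add {N : Matrix ι ι F} {k : ℕ} (hN : N ^ k = 0) {c : F} (hc : c ≠ 0) :
    IsUnit (N + c • 1) :=
  IsNilpotent.isUnit_add_right_of_commute ⟨k, hN⟩ (isUnit_smul_one hc) ((Commute.one_left N).smul_left c).symm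

theorem noRoot_w (h : F4 σ) {w : F} (hw : IsW w) (c : F) : c * c + w * c + 1 ≠ 0 := by
  have h2 := h.two
  rcases h.cases hw c with rfl | rfl | rfl | rfl <;> intro e
  · simp at e
  · exact hw.ne_zero (by linear_combination e - h2)
  · exact one_ne_zero (show (1 : F) = 0 by linear_combination e - c * c * h2)
  · exact hw.ne_zero (by linear_combination e - (w * w + w + 1) * h2)

/-- `M + c` is invertible when `M² + w M + 1` is nilpotent. -/
theorem isUnit_add (h : F4 σ) {w : F} (hw : IsW w) {M : Matrix ι ι F} {k : ℕ} (hM : gq w M ^ k = 0) (c : F) :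
    IsUnit (M + c • 1) := by
  have h2 : (c + (c + w)) = w := by linear_combination c * h.two
  have e : (M + c • 1) * (M + (c + w) • 1) = gq w M + (c * c + w * c + 1 - 0) • 1 - (0 : F) • M := by
    rw [gq, Matrix.add_mul, Matrix.mul_add, Matrix.mul_add, Matrix.smul_mul, Matrix.smul_mul, Matrix.mul_smul,
      Matrix.mul_one, Matrix.one_mul, Matrix.one_mul, smul_smul]
    have hc : c • M + (c + w) • M = w • M := by rw [← add_smul, h2]
    have h1 : (1 : Matrix ι ι F) + (1 : F) • 1 = 0 := by rw [one_smul]; exact h.add_self_mat _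
    linear_combination (norm := module) hc - h1
  rw [sub_zero, zero_smul, sub_zero] at e
  have hu : IsUnit ((M + c • 1) * (M + (c + w) • 1)) := e ▸ isUnit_nil_add hM (noRoot_w h hw c)
  obtain ⟨R, hR⟩ := hu.exists_right_inv
  exact IsUnit.of_mul_eq_one ((M + (c + w) • 1) * R) (by rw [← Matrix.mul_assoc]; exact hR)

/-- The model matrix in a basis `gq^i e, gq^i M e`. -/
def cmat (w : F) (k : ℕ) : Matrix (Fin (k + 1) × Fin 2) (Fin (k + 1) × Fin 2) F :=
  Matrix.of fun x y =>
    if y.2 = 0 then (if x.1 = y.1 ∧ x.2 = 1 then 1 else 0)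
    else (if x.1 = y.1 then (if x.2 = 0 then 1 else w) else 0) + if (x.1 : ℕ) = y.1 + 1 ∧ x.2 = 0 then 1 else 0

theorem sim_cmat (h : F4 σ) {w : F} (hw : IsW w) (k : ℕ) {M : Matrix (Fin (k + 1) × Fin 2) (Fin (k + 1) × Fin 2) F}
    (hM : gq w M ^ (k + 1) = 0) (hM' : gq w M ^ k ≠ 0) : Sim M (cmat w k) := by
  obtain ⟨e, he⟩ : ∃ e, gq w M ^ k *ᵥ e ≠ 0 := by
    by_contra hc
    push Not at hc
    exact hM' (Matrix.ext_of_mulVec_single fun i => by rw [hc, Matrix.zero_mulVec])
  obtain ⟨G, hG⟩ : ∃ G, G = gq w M := ⟨_, rfl⟩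
  rw [← hG] at hM hM' he
  obtain ⟨b, hb⟩ : ∃ b : ℕ → Fin 2 → (Fin (k + 1) × Fin 2 → F),
      b = fun i s => if s = 0 then G ^ i *ᵥ e else G ^ i *ᵥ (M *ᵥ e) := ⟨_, rfl⟩
  obtain ⟨S, hS⟩ : ∃ S : Matrix (Fin (k + 1) × Fin 2) (Fin (k + 1) × Fin 2) F,
      S = Matrix.of fun x y => b y.1 y.2 x := ⟨_, rfl⟩
  have hcomm : Commute M G := hG ▸ commute_gq w M
  have hb0 : ∀ i, M *ᵥ b i 0 = b i 1 := fun i => by
    simp only [hb, if_true, if_neg (show (1 : Fin 2) ≠ 0 by decide)]
    rw [mulVec_mulVec, mulVec_mulVec, (hcomm.pow_right i).eq]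
  have hb1 : ∀ i, M *ᵥ b i 1 = b (i + 1) 0 + w • b i 1 + b i 0 := fun i => by
    simp only [hb, if_true, if_neg (show (1 : Fin 2) ≠ 0 by decide)]
    have e1 : M *ᵥ (M *ᵥ e) = G *ᵥ e + w • (M *ᵥ e) + e := by
      rw [hG, gq, Matrix.add_mulVec, Matrix.add_mulVec, Matrix.smul_mulVec, Matrix.one_mulVec, mulVec_mulVec]
      funext x
      simp only [Pi.add_apply, Pi.smul_apply, smul_eq_mul]
      linear_combination -((w * (M *ᵥ e) x) + e x) * h.two
    calc M *ᵥ (G ^ i *ᵥ (M *ᵥ e)) = G ^ i *ᵥ (M *ᵥ (M *ᵥ e)) := by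
          rw [mulVec_mulVec, mulVec_mulVec, mulVec_mulVec, mulVec_mulVec, (hcomm.pow_right i).eq]
      _ = _ := by rw [e1, mulVec_add, mulVec_add, mulVec_smul, mulVec_mulVec, ← pow_succ]
  refine ⟨S, ?_, ?_⟩
  · rw [← Matrix.mulVec_injective_iff_isUnit, ← Matrix.coe_mulVecLin, ← LinearMap.ker_eq_bot, LinearMap.ker_eq_bot']
    intro v hv
    rw [Matrix.mulVecLin_apply] at hv
    have hsum : ∑ i : Fin (k + 1), G ^ (i : ℕ) *ᵥ ((v (i, 0) • e) + v (i, 1) • (M *ᵥ e)) = 0 := by
      rw [← hv]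
      funext x
      rw [show (S *ᵥ v) x = ∑ y, S x y * v y from rfl, Fintype.sum_prod_type, Finset.sum_apply]
      refine Finset.sum_congr rfl fun i _ => ?_
      rw [mulVec_add, mulVec_smul, mulVec_smul, Fin.sum_univ_two]
      simp only [hS, hb, Matrix.of_apply, Pi.add_apply, Pi.smul_apply, smul_eq_mul, if_true, one_ne_zero, if_false]
      ring
    have key : ∀ i : ℕ, ∀ hi : i < k + 1, v (⟨i, hi⟩, 0) = 0 ∧ v (⟨i, hi⟩, 1) = 0 := by
      intro i
      induction i using Nat.strong_induction_on with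
      | _ i ih =>
        intro hi
        have h1 := congrArg (fun x => G ^ (k - i) *ᵥ x) hsum
        simp only [mulVec_sum, mulVec_mulVec, ← pow_add, mulVec_zero] at h1
        rw [Finset.sum_eq_single ⟨i, hi⟩] at h1
        · rw [show k - i + i = k by omega, mulVec_add, mulVec_smul, mulVec_smul, mulVec_mulVec,
            ← (hcomm.pow_right k).eq, ← mulVec_mulVec] at h1
          by_cases hc : v (⟨i, hi⟩, 1) = 0
          · rw [hc, zero_smul, add_zero] at h1
            exact ⟨(smul_eq_zero.1 h1).resolve_right he, hc⟩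
          · exfalso
            obtain ⟨R, hR⟩ := (isUnit_add h hw (hG ▸ hM) (v (⟨i, hi⟩, 0) / v (⟨i, hi⟩, 1))).exists_left_inv
            apply he
            have h2 : (M + (v (⟨i, hi⟩, 0) / v (⟨i, hi⟩, 1)) • 1) *ᵥ (G ^ k *ᵥ e) = 0 := by
              apply smul_right_injective (Fin (k + 1) × Fin 2 → F) hc
              dsimp only
              rw [smul_zero, Matrix.add_mulVec, Matrix.smul_mulVec, Matrix.one_mulVec, smul_add, smul_smul,
                mul_div_cancel₀ _ hc, ← h1]
              abel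
            rw [← Matrix.one_mulVec (G ^ k *ᵥ e), ← hR, ← mulVec_mulVec, h2, mulVec_zero]
        · intro l _ hl
          rcases Nat.lt_or_ge (l : ℕ) i with hli | hli
          · obtain ⟨e0, e1⟩ := ih l hli l.2
            simp [e0, e1]
          · have : i < (l : ℕ) := lt_of_le_of_ne hli fun e => hl (Fin.ext e.symm)
            rw [show k - i + (l : ℕ) = (k + 1) + ((l : ℕ) - i - 1) by omega, pow_add, hM, Matrix.zero_mul,
              Matrix.zero_mulVec]
        · simp
    funext x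
    obtain ⟨i, s⟩ := x
    fin_cases s
    · exact (key i i.2).1
    · exact (key i i.2).2
  · ext x y
    obtain ⟨j, s⟩ := y
    rw [show (M * S) x (j, s) = (M *ᵥ b j s) x by simp [Matrix.mul_apply, Matrix.mulVec, dotProduct, hS]]
    rw [Matrix.mul_apply, Fintype.sum_prod_type]
    simp only [Fin.sum_univ_two, cmat, hS, Matrix.of_apply]
    fin_cases s
    · simp [hb0]
    · simp only [Fin.mk_one, Fin.isValue, one_ne_zero, if_false, if_true, hb1, Pi.add_apply, Pi.smul_apply,
        zero_ne_one, and_true, and_false, add_zero, mul_add, Finset.sum_add_distrib, smul_eq_mul, mul_ite,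
        mul_one, mul_zero, Finset.sum_ite_eq', Finset.mem_univ]
      by_cases hj : (j : ℕ) + 1 < k + 1
      · rw [Finset.sum_eq_single ⟨(j : ℕ) + 1, hj⟩ (fun l _ hl => by
          rw [if_neg fun e => hl (Fin.ext e)]) (by simp)]
        simp only [if_true]
        ring
      · have hz : ∀ l : Fin (k + 1), ¬(l : ℕ) = j + 1 := fun l => by omega
        simp only [hz, if_false, Finset.sum_const_zero]
        have : b ((j : ℕ) + 1) 0 = 0 := by
          simp only [hb, if_true, show (j : ℕ) + 1 = k + 1 by omega, hM, Matrix.zero_mulVec]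
        rw [this]
        simp only [Pi.zero_apply]
        ring

theorem sim_of_gq (h : F4 σ) {w : F} (hw : IsW w) {k : ℕ} (e : ι ≃ Fin (k + 1) × Fin 2) {M N : Matrix ι ι F}
    (hM : gq w M ^ (k + 1) = 0) (hM' : gq w M ^ k ≠ 0) (hN : gq w N ^ (k + 1) = 0) (hN' : gq w N ^ k ≠ 0) :
    Sim M N := by
  have one : ∀ M : Matrix ι ι F, gq w M ^ (k + 1) = 0 → gq w M ^ k ≠ 0 → Sim M ((cmat w k).submatrix e e) := by
    intro M hM hM'
    have := sim_submatrix (sim_cmat h hw k (M := M.submatrix e.symm e.symm)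
      (by rw [gq_submatrix, pow_submatrix, hM, submatrix_zero]; rfl) (fun h0 => hM' (by
        rw [gq_submatrix, pow_submatrix] at h0
        ext i j
        simpa using congrFun (congrFun h0 (e i)) (e j)))) e
    simpa [Matrix.submatrix_submatrix] using this
  exact (one M hM hM').trans (sim_symm (one N hN hN'))

theorem gq_fromBlocks_lower (w : F) (A : Matrix ι ι F) (C : Matrix κ ι F) (D : Matrix κ κ F) :
    gq w (fromBlocks A 0 C D) = fromBlocks (gq w A) 0 (C * A + D * C + w • C) (gq w D) := by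
  rw [gq, gq, gq, fromBlocks_multiply, fromBlocks_smul, ← fromBlocks_one, fromBlocks_add, fromBlocks_add]
  simp

theorem gq_fromBlocks_upper (w : F) (A : Matrix ι ι F) (B : Matrix ι κ F) (D : Matrix κ κ F) :
    gq w (fromBlocks A B 0 D) = fromBlocks (gq w A) (A * B + B * D + w • B) 0 (gq w D) := by
  rw [gq, gq, gq, fromBlocks_multiply, fromBlocks_smul, ← fromBlocks_one, fromBlocks_add, fromBlocks_add]
  simp

theorem pow_lower_succ (C : Matrix κ ι F) (D : Matrix κ κ F) (i : ℕ) :
    fromBlocks (0 : Matrix ι ι F) 0 C D ^ (i + 1) = fromBlocks 0 0 (D ^ i * C) (D ^ (i + 1)) := by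
  induction i with
  | zero => simp
  | succ i ih => rw [pow_succ', ih, fromBlocks_multiply]; simp [pow_succ', Matrix.mul_assoc]

theorem pow_upper_succ (B : Matrix ι κ F) (D : Matrix κ κ F) (i : ℕ) :
    fromBlocks (0 : Matrix ι ι F) B 0 D ^ (i + 1) = fromBlocks 0 (B * D ^ i) 0 (D ^ (i + 1)) := by
  induction i with
  | zero => simp
  | succ i ih => rw [pow_succ, ih, fromBlocks_multiply]; simp [pow_succ, Matrix.mul_assoc]

/-- Upper Hessenberg with ones below the diagonal. -/
def Hess {n : ℕ} (M : Matrix (Fin n) (Fin n) F) : Prop :=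
  ∀ i j : Fin n, ((i : ℕ) = j + 1 → M i j = 1) ∧ ((j : ℕ) + 1 < i → M i j = 0)

/-- Properties of the linked model. -/
structure GModel (w : F) (j : ℕ) (M P Q : Matrix (Fin (2 * j + 2)) (Fin (2 * j + 2)) F) : Prop where
  eq : M * Q = P
  det : M.det = 1
  detP : P.det = 1
  hess : Hess M
  trace : M.trace = (j + 1 : ℕ)
  p0 : gq w P ^ (j + 1) = 0
  p1 : gq w P ^ j *ᵥ Pi.single 0 1 ≠ 0
  q0 : gq w Q ^ (j + 1) = 0
  q1 : Pi.single 0 1 ᵥ* gq w Q ^ j ≠ 0

theorem gq_const (h : F4 σ) {w : F} (hw : IsW w) :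
    gq w !![1, w; 1, w + 1] = (0 : Matrix (Fin 2) (Fin 2) F) ∧ gq w !![0, 1; 1, w] = (0 : Matrix (Fin 2) (Fin 2) F) := by
  rw [IsW] at hw
  have h2 := h.two
  constructor
  · ext i j
    fin_cases i <;> fin_cases j <;> simp [gq, Matrix.mul_apply, Fin.sum_univ_two]
    · linear_combination (1 + w) * h2
    · linear_combination hw + hw + (w + 1) * h2 + w * h2
    · linear_combination (w + 1) * h2
    · linear_combination hw + hw + (2 * w + 2) * h2 + w * h2
  · ext i j
    fin_cases i <;> fin_cases j <;> simp [gq, Matrix.mul_apply, Fin.sum_univ_two]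
    · linear_combination h2
    · linear_combination w * h2
    · linear_combination w * h2
    · linear_combination (w * w + 1) * h2

theorem exists_gmodel (h : F4 σ) {w : F} (hw : IsW w) (j : ℕ) : ∃ M P Q, GModel w j M P Q := by
  have h2 := h.two
  obtain ⟨hgP, hgQ⟩ := gq_const h hw
  have hone : ∀ (M : Matrix (Fin 2) (Fin 2) F), gq w M = 0 → gq w M ^ 1 = 0 := fun M hM => by rw [pow_one, hM]
  induction j with
  | zero =>
    refine ⟨!![0, 1; 1, 1], !![1, w; 1, w + 1], !![0, 1; 1, w], ?_, ?_, ?_, ?_, ?_, hone _ hgP, ?_, hone _ hgQ, ?_⟩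
    · ext a b; fin_cases a <;> fin_cases b <;> simp [Matrix.mul_apply, Fin.sum_univ_two, add_comm]
    · rw [det_fin_two]; simp [h.neg_eq]
    · rw [det_fin_two]; simp
    · intro a b; fin_cases a <;> fin_cases b <;> simp
    · simp [Matrix.trace, Fin.sum_univ_two]
    · rw [pow_zero, Matrix.one_mulVec]; exact fun e => by simpa using congrFun e 0
    · rw [pow_zero, Matrix.vecMul_one]; exact fun e => by simpa using congrFun e 0
  | succ j ih =>
    obtain ⟨M, P, Q, hm⟩ := ih
    obtain ⟨B, hB⟩ : ∃ B : Matrix (Fin 2) (Fin (2 * j + 2)) F, B = Matrix.of fun i l => if i = 1 ∧ l = 0 then 1 else 0 :=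
      ⟨_, rfl⟩
    obtain ⟨E, hE⟩ : ∃ E : Matrix (Fin (2 * j + 2)) (Fin 2) F, E = Matrix.of fun i l => if i = 0 ∧ l = 1 then 1 else 0 :=
      ⟨_, rfl⟩
    obtain ⟨W, hW⟩ : ∃ W : Matrix (Fin 2) (Fin (2 * j + 2)) F, W = Matrix.of fun i l => if i = 0 then Q 0 l else 0 :=
      ⟨_, rfl⟩
    obtain ⟨Z, hZ⟩ : ∃ Z : Matrix (Fin (2 * j + 2)) (Fin 2) F,
        Z = Matrix.of fun i l => if i = 0 then (if l = 0 then 1 else w) else 0 := ⟨_, rfl⟩
    have hEQ : E * !![0, 1; 1, w] = Z := by
      ext i l; fin_cases l <;> simp [hE, hZ, Matrix.mul_apply, Fin.sum_univ_two]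
    have hAW : (!![0, 1; 1, 1] : Matrix (Fin 2) (Fin 2) F) * W + B * Q = 0 := by
      ext i l
      fin_cases i <;> simp [hW, hB, Matrix.mul_apply, Fin.sum_univ_two, h.add_self, Matrix.vecHead, Matrix.vecTail, -Matrix.cons_mul]
    have hEW : E * W = 0 := by
      ext i l; simp [hE, hW, Matrix.mul_apply, Fin.sum_univ_two]
    refine ⟨(fromBlocks !![0, 1; 1, 1] B E M).submatrix (e2 (2 * j + 2)).symm (e2 (2 * j + 2)).symm,
      (fromBlocks !![1, w; 1, w + 1] 0 Z P).submatrix (e2 (2 * j + 2)).symm (e2 (2 * j + 2)).symm,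
      (fromBlocks !![0, 1; 1, w] W 0 Q).submatrix (e2 (2 * j + 2)).symm (e2 (2 * j + 2)).symm, ?_, ?_, ?_, ?_, ?_, ?_, ?_, ?_, ?_⟩
    · rw [submatrix_mul_equiv, fromBlocks_multiply, hAW, hEW, hEQ, hm.eq]
      congr 2
      · ext a b; fin_cases a <;> fin_cases b <;> simp [Matrix.mul_apply, Fin.sum_univ_two, add_comm]
      · simp
      · simp
    · rw [det_submatrix_equiv_self]
      have hA : (!![0, 1; 1, 1] : Matrix (Fin 2) (Fin 2) F) * (!![1, 1; 1, 0] : Matrix (Fin 2) (Fin 2) F) = 1 := by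
        ext a b; fin_cases a <;> fin_cases b <;> simp [Matrix.mul_apply, Fin.sum_univ_two, h.add_self]
      have hEB : E * (!![1, 1; 1, 0] : Matrix (Fin 2) (Fin 2) F) * B = 0 := by
        ext a b; simp [hE, hB, Matrix.mul_apply, Fin.sum_univ_two]
      have : fromBlocks !![0, 1; 1, 1] B E M =
          fromBlocks 1 0 (E * (!![1, 1; 1, 0] : Matrix (Fin 2) (Fin 2) F)) 1 * fromBlocks !![0, 1; 1, 1] B 0 M := by
        rw [fromBlocks_multiply, Matrix.mul_assoc E, mul_eq_one_comm.1 hA, hEB]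
        simp
      rw [this, det_mul, det_fromBlocks_zero₁₂, det_fromBlocks_zero₂₁, hm.det, det_fin_two]
      simp [h.neg_eq]
    · rw [det_submatrix_equiv_self, det_fromBlocks_zero₁₂, hm.detP, det_fin_two]
      simp
    · intro a b
      obtain ⟨a', rfl⟩ := (e2 (2 * j + 2)).surjective a
      obtain ⟨b', rfl⟩ := (e2 (2 * j + 2)).surjective b
      rw [submatrix_apply, Equiv.symm_apply_apply, Equiv.symm_apply_apply]
      have v0 : ∀ c : Fin 2, ((e2 (2 * j + 2) (Sum.inl c) : Fin (2 * j + 2 + 2)) : ℕ) = c := fun c => by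
        fin_cases c <;> rfl
      have v1 : ∀ c : Fin (2 * j + 2), ((e2 (2 * j + 2) (Sum.inr c) : Fin (2 * j + 2 + 2)) : ℕ) = c + 2 := fun c => rfl
      rcases a' with a | a <;> rcases b' with b | b <;>
        simp only [v0, v1, fromBlocks_apply₁₁, fromBlocks_apply₁₂, fromBlocks_apply₂₁, fromBlocks_apply₂₂, hB, hE,
          Matrix.of_apply]
      · fin_cases a <;> fin_cases b <;> simp
      · constructor <;> intro e
        · have := a.isLt; omega
        · have := a.isLt; omega
      · refine ⟨fun e => if_pos ?_, fun e => if_neg ?_⟩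
        · have := b.isLt; exact ⟨Fin.ext (by rw [Fin.val_zero]; omega), Fin.ext (by rw [Fin.val_one]; omega)⟩
        · rintro ⟨rfl, rfl⟩
          simp at e
      · exact ⟨fun e => (hm.hess a b).1 (by omega), fun e => (hm.hess a b).2 (by omega)⟩
    · rw [Matrix.trace]
      refine ((e2 (2 * j + 2)).sum_comp _).symm.trans ?_
      simp only [diag_apply, submatrix_apply, Equiv.symm_apply_apply, Fintype.sum_sum_type, fromBlocks_apply₁₁,
        fromBlocks_apply₂₂]
      have := hm.trace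
      simp only [Matrix.trace, diag_apply] at this
      rw [Fin.sum_univ_two, this]
      simp; ring
    · rw [gq_submatrix, pow_submatrix, gq_fromBlocks_lower, hgP, pow_lower_succ, pow_succ (gq w P) (j + 1), hm.p0]
      simp
    · rw [gq_submatrix, pow_submatrix, gq_fromBlocks_lower, hgP]
      intro h0
      have h1 := congrArg (fun v => fun i : Fin (2 * j + 2) => v (e2 (2 * j + 2) (Sum.inr i))) h0
      apply hm.p1
      obtain ⟨R, hR⟩ := (isUnit_add h hw hm.p0 1).exists_left_inv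
      have hZc : (Z * !![1, w; 1, w + 1] + P * Z + w • Z) *ᵥ Pi.single 0 1 = (P + 1 • 1) *ᵥ Pi.single 0 1 := by
        funext i
        rw [Matrix.mulVec_single_one, Matrix.mulVec_single_one]
        simp [hZ, Matrix.mul_apply, Fin.sum_univ_two, Matrix.one_apply]
        split_ifs <;> first | ring1 | linear_combination w * h2
      have h3 : (gq w P ^ j * (Z * !![1, w; 1, w + 1] + P * Z + w • Z)) *ᵥ Pi.single 0 1 = 0 := by
        funext i
        have := congrFun h1 i
        rw [Matrix.mulVec_single_one] at this ⊢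
        rw [pow_lower_succ] at this
        simpa [e2] using this
      rw [← mulVec_mulVec, hZc, mulVec_mulVec] at h3
      have hcm : Commute (gq w P ^ j) (P + 1 • 1) :=
        ((commute_gq w P).symm.add_right ((Commute.one_right _).smul_right _)).pow_left j
      simp only [one_smul] at h3 hcm hR
      rw [hcm.eq, ← mulVec_mulVec] at h3
      rw [← Matrix.one_mulVec (gq w P ^ j *ᵥ Pi.single 0 1), ← hR, ← mulVec_mulVec, h3, mulVec_zero]
    · rw [gq_submatrix, pow_submatrix, gq_fromBlocks_upper, hgQ, pow_upper_succ, pow_succ (gq w Q) (j + 1), hm.q0]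
      simp
    · rw [gq_submatrix, pow_submatrix, gq_fromBlocks_upper, hgQ]
      intro h0
      have h1 := congrArg (fun v => fun i : Fin (2 * j + 2) => v (e2 (2 * j + 2) (Sum.inr i))) h0
      apply hm.q1
      obtain ⟨R, hR⟩ := ((isUnit_add h hw hm.q0 0).mul (isUnit_add h hw hm.q0 w)).exists_right_inv
      simp only [zero_smul, add_zero] at hR
      have hWr : Pi.single 0 1 ᵥ* (!![0, 1; 1, w] * W + W * Q + w • W) = Pi.single 0 1 ᵥ* (Q * (Q + w • 1)) := by
        funext l
        simp [hW, Matrix.mul_apply, Fin.sum_univ_two, Matrix.one_apply, Finset.sum_add_distrib, mul_add, Matrix.vecHead, Matrix.vecTail]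
      have h3 : Pi.single 0 1 ᵥ* ((!![0, 1; 1, w] * W + W * Q + w • W) * gq w Q ^ j) = 0 := by
        funext l
        have := congrFun h1 l
        rw [Matrix.single_one_vecMul] at this ⊢
        rw [pow_upper_succ] at this
        simpa [e2] using this
      rw [← vecMul_vecMul, hWr, vecMul_vecMul] at h3
      have hcm : Commute (gq w Q ^ j) (Q * (Q + w • 1)) :=
        (((commute_gq w Q).symm).mul_right ((commute_gq w Q).symm.add_right ((Commute.one_right _).smul_right _))).pow_left j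
      rw [← hcm.eq, ← vecMul_vecMul] at h3
      rw [← Matrix.vecMul_one (Pi.single 0 1 ᵥ* gq w Q ^ j), ← hR, ← vecMul_vecMul _ (Q * (Q + w • 1)), h3, zero_vecMul]

/-- The similarity of the two factors. -/
theorem GModel.sim (h : F4 σ) {w : F} (hw : IsW w) {j : ℕ} {M P Q : Matrix (Fin (2 * j + 2)) (Fin (2 * j + 2)) F}
    (hm : GModel w j M P Q) : Sim Q P :=
  sim_of_gq h hw ((finCongr (by omega : 2 * j + 2 = (j + 1) * 2)).trans finProdFinEquiv.symm) hm.q0
    (fun e => hm.q1 (by rw [e, Matrix.vecMul_zero])) hm.p0 (fun e => hm.p1 (by rw [e, Matrix.zero_mulVec]))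

end CfsgLib.SUComm.Two
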