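import Cfsg.Agent.Lib.Classical.SUComm.Two.Model
import Cfsg.Agent.Lib.Classical.SUComm.Two.Four

/-!
# Every element is a commutator over the field with four elements
-/

set_option autoImplicit false
set_option linter.unusedSectionVars false

namespace CfsgLib.SUComm.Two

open Matrix CfsgLib.Classical

variable {F : Type*} [Field F] [Fintype F] {σ : F →+* F}

theorem isC_of_full (h : F4 σ) {n : ℕ} (hn : 0 < n) {g : Matrix (Fin n) (Fin n) F} (hg : UStd σ g) (hdet : g.det = 1)
    {ν : F} (hfull : Module.finrank F (eig g ν) = n) : IsC σ g := by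
  have htop : eig g ν = ⊤ := Submodule.eq_top_of_finrank_eq (by rw [hfull, Module.finrank_fin_fun])
  have hc : g = ν • 1 := by
    ext i j
    have := congrFun (mem_eig.1 (htop ▸ Submodule.mem_top : (Pi.single j (1 : F) : Fin n → F) ∈ eig g ν)) i
    rw [Matrix.mulVec_single_one] at this
    simpa [Matrix.one_apply, Pi.single_apply] using this
  obtain ⟨h1, h2⟩ := scalar_facts hn hg hdet hc
  rw [hc]
  exact isC_scalar (q := 2) h.card h.frob hn h1 h2

/-- Everything over the field with four elements. -/
theorem isC_two (h : F4 σ) : ∀ (n : ℕ), 4 ≤ n → ∀ g : Matrix (Fin n) (Fin n) F, UStd σ g → g.det = 1 → IsC σ g := by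
  intro n
  induction n using Nat.strong_induction_on with
  | _ n ih =>
  intro hn g hg hdet
  by_cases hbig : ∃ ν : F, ν ≠ 0 ∧ n < Module.finrank F (eig g ν) + (if n = 4 then 2 else (n - 1) / 2)
  · obtain ⟨ν, hν, hd⟩ := hbig
    have hle : Module.finrank F (eig g ν) ≤ n := (Submodule.finrank_le _).trans (le_of_eq (Module.finrank_fin_fun _))
    rcases Nat.lt_or_ge n 7 with h7 | h7
    · rcases (by split_ifs at hd <;> omega :
        Module.finrank F (eig g ν) + 1 = n ∨ Module.finrank F (eig g ν) = n) with h1 | h1
      · exact isC_rank_one h hn (by omega) hg hdet hν h1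
      · exact isC_of_full h (by omega) hg hdet h1
    · refine isC_three h hg hdet hν (by rw [if_neg (by omega)] at hd; omega) fun l hl g' hg' hd' => ?_
      exact ih l (by omega) (by omega) g' hg' hd'
  · push Not at hbig
    rcases (by omega : n = 4 ∨ 5 ≤ n) with rfl | h5
    · rcases flag_or_isC_four h hg hdet (fun ν hν => by have := hbig ν hν; simp at this; omega) with hf | hc
      · exact isC_of_good h hg hdet (good_two h hg hdet (Or.inl rfl) hf)
      · exact hc
    · have hr : ∀ ν : F, ν ≠ 0 → Module.finrank F (eig g ν) + (n - 1) / 2 ≤ n := fun ν hν => by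
        have := hbig ν hν
        rw [if_neg (by omega)] at this
        exact this
      have hf : Flag σ g ((n - 1) / 2) := exists_flag h _ n g (by omega) (by omega) (by omega) hg hr
      rcases Nat.even_or_odd' n with ⟨j, rfl | rfl⟩
      · rw [show (2 * j - 1) / 2 = j - 1 by omega] at hf
        exact isC_of_good h hg hdet (good_even h hg hdet (by omega) (by omega) hf)
      · rw [show (2 * j + 1 - 1) / 2 = j by omega] at hf
        rcases (by omega : j = 2 ∨ 3 ≤ j) with rfl | hj
        · exact isC_of_good h hg hdet (good_two h hg hdet (Or.inr rfl) hf)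
        · exact isC_of_good h hg hdet (good_odd h hg hj rfl hf)

end CfsgLib.SUComm.Two
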