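import Cfsg.Agent.Lib.Classical.SUComm.Two.Bottom

/-!
# A good corner block gives a commutator
-/

set_option autoImplicit false
set_option linter.unusedSectionVars false

namespace CfsgLib.SUComm.Two

open Matrix Polynomial CfsgLib.Classical CfsgLib.Classical.SmallIso

variable {F : Type*} [Field F] [Fintype F] {σ : F →+* F} {n : ℕ}

/-- From a model of the corner block to a commutator. -/
theorem finish (h : F4 σ) {g : Matrix (Fin n) (Fin n) F} (hg : UStd σ g) (hdet : g.det = 1) {m k : ℕ}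
    {V : Matrix (Fin n) (Fin m) F} {Z : Matrix (Fin n) (Fin k) F} {W : Matrix (Fin n) (Fin m) F} (hfr : Fr σ V Z W)
    (hk : k ≤ 1) (hn : 2 * m + k = n) (ha1 : (ct σ W * g * V).det = 1) {ι : Type} [Fintype ι] [DecidableEq ι]
    (e : ι ≃ Fin m) {T Ti : Matrix ι ι F} (hT : T * Ti = 1) (hdec : Dec T ((ct σ W * g * V).submatrix e e))
    (hTd : T.det = 1) (hT1 : IsUnit (T + 1)) {p : F[X]} (hp : aeval T p = 0) (hp' : IsUnit (aeval (ct σ Ti) p))
    (hcen : ∀ c : F, c ≠ 0 → ∃ S Si : Matrix ι ι F, S * Si = 1 ∧ S * T = T * S ∧ S.det = c) : IsC σ g := by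
  have hblock : ct σ (W.submatrix id e) * g * V.submatrix id e = (ct σ W * g * V).submatrix e e := by
    rw [ct_submatrix, show (ct σ W).submatrix e id * g = (ct σ W * g).submatrix e id from by
      ext i j; simp [Matrix.mul_apply], ← Matrix.submatrix_mul _ _ _ _ _ Function.bijective_id]
  have hTid : Ti.det = 1 := by
    have := congrArg det hT; rwa [det_mul, hTd, one_mul, det_one] at this
  refine isC_of_model h.card h.frob h.conj hg hdet (hfr.reindex e) ?_ (by simpa using hk) ?_ hT ?_ (s := 1)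
    (by simp) ?_ hp hp' ?_ fun t ht => ?_
  · simp [Fintype.card_congr e]; omega
  · rw [hblock, det_submatrix_equiv_self, ha1]
  · rw [hblock]; exact hdec
  · rwa [one_smul, sub_eq_add_neg, h.neg_mat]
  · rw [hTd, hTid]; simp
  have ht0 : t ≠ 0 := fun e => by rw [e, zero_mul] at ht; exact zero_ne_one ht
  rw [Fintype.card_fin]
  rcases (by omega : k = 1 ∨ k = 0) with rfl | rfl
  · exact ⟨1, 1, t, Matrix.one_mul _, by rw [Matrix.one_mul, Matrix.mul_one], ht, by simp⟩
  · obtain ⟨S, Si, hS, hST, hSd⟩ := hcen (t ^ 2) (pow_ne_zero 2 ht0)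
    refine ⟨S, Si, 1, hS, hST, by simp, ?_⟩
    have hSid : Si.det = (t ^ 2)⁻¹ := eq_inv_of_mul_eq_one_right (by rw [← hSd, ← det_mul, hS, det_one])
    have : σ ((t ^ 2)⁻¹) = t ^ 2 := by
      have hn := h.norm (pow_ne_zero 2 ht0)
      rw [map_inv₀]; exact inv_eq_of_mul_eq_one_left hn
    rw [hSd, hSid, this, pow_zero, mul_one]
    linear_combination h.fourth t

theorem isUnit_nil {m : Type*} [Fintype m] [DecidableEq m] {N U : Matrix m m F} {j : ℕ} (hN : N ^ j = 0) (hU : IsUnit U)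
    (hc : Commute N U) : IsUnit (N + U) :=
  IsNilpotent.isUnit_add_right_of_commute ⟨j, hN⟩ hU hc

/-- The first factor of the polynomial. -/
noncomputable def pg (w : F) (J : ℕ) : F[X] := (X ^ 2 + Polynomial.C w * X + 1) ^ J

theorem aeval_pg {m : Type*} [Fintype m] [DecidableEq m] (w : F) (J : ℕ) (M : Matrix m m F) :
    aeval M (pg w J) = gq w M ^ J := by
  rw [pg, map_pow]
  congr 1
  simp [gq, sq, Algebra.smul_def]

theorem exists_pattern' {m : ℕ} (hm : 0 < m) {a C : Matrix (Fin m) (Fin m) F} (ha : IsH a) (hC : Hess C) :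
    ∃ S Si : Matrix (Fin m) (Fin m) F, S * Si = 1 ∧ ∀ i j : Fin m, (j : ℕ) + 1 < m → (Si * a * S) i j = C i j := by
  obtain ⟨m', rfl⟩ : ∃ m', m = m' + 1 := ⟨m - 1, by omega⟩
  obtain ⟨S, Si, h1, h2⟩ := exists_pattern ha hC
  exact ⟨S, Si, h1, fun i j hj => h2 i j (by omega)⟩

/-- The assembly from a bottom block. -/
theorem isC_block (h : F4 σ) {w : F} (hw : IsW w) {g : Matrix (Fin n) (Fin n) F} (hg : UStd σ g) (hdet : g.det = 1)
    (J b : ℕ) (hb : 2 ≤ b) {k : ℕ} {V : Matrix (Fin n) (Fin (2 * J + b)) F} {Z : Matrix (Fin n) (Fin k) F}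
    {W : Matrix (Fin n) (Fin (2 * J + b)) F} (hfr : Fr σ V Z W) (hk : k ≤ 1) (hn : 2 * (2 * J + b) + k = n)
    (ha1 : (ct σ W * g * V).det = 1) (haH : IsH (ct σ W * g * V))
    {Db : Matrix (Fin b) (Fin b) F} (hDb : Hess Db)
    {T2 T2i : Matrix (Fin b) (Fin b) F} (hT2 : T2 * T2i = 1) (hT2d : T2.det = 1) (hT21 : IsUnit (T2 + 1))
    {p2 : F[X]} (hp2 : aeval T2 p2 = 0) (hg2 : IsUnit (gq w T2)) (hg2i : IsUnit (gq w (ct σ T2i)))
    (hp2i : IsUnit (aeval (ct σ T2i) p2))
    (hp2P : ∀ P Pi' : Matrix (Fin (2 * J)) (Fin (2 * J)) F, P * Pi' = 1 → gq w P ^ J = 0 →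
      IsUnit (aeval (ct σ Pi') p2))
    (hcen : ∀ c : F, c ≠ 0 → ∃ R Ri : Matrix (Fin b) (Fin b) F, R * Ri = 1 ∧ R * T2 = T2 * R ∧ R.det = c)
    (hbot : ∀ D : Matrix (Fin b) (Fin b) F, (∀ i j : Fin b, (j : ℕ) + 1 < b → D i j = Db i j) → D.det = 1 →
      D.trace = (ct σ W * g * V).trace + (J : F) → Dec T2 D) : IsC σ g := by
  obtain ⟨a, ha⟩ : ∃ a, a = ct σ W * g * V := ⟨_, rfl⟩
  rw [← ha] at ha1 haH hbot
  obtain ⟨M, P, hm⟩ := exists_lmodel h hw J
  obtain ⟨E, hE⟩ : ∃ E : Matrix (Fin b) (Fin (2 * J)) F,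
      E = Matrix.of fun (i : Fin b) (j : Fin (2 * J)) => if (i : ℕ) = 0 ∧ (j : ℕ) + 1 = 2 * J then 1 else 0 := ⟨_, rfl⟩
  obtain ⟨e, he⟩ : ∃ e : Fin (2 * J) ⊕ Fin b ≃ Fin (2 * J + b), e = finSumFinEquiv := ⟨_, rfl⟩
  obtain ⟨Cp, hCp⟩ : ∃ C, C = (fromBlocks M 0 E Db).submatrix e.symm e.symm := ⟨_, rfl⟩
  have vl : ∀ i, (e (Sum.inl i) : ℕ) = i := fun i => by rw [he]; rfl
  have vr : ∀ i, (e (Sum.inr i) : ℕ) = 2 * J + i := fun i => by rw [he]; rfl
  have hC : Hess Cp := by
    intro i j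
    obtain ⟨i, rfl⟩ := e.surjective i
    obtain ⟨j, rfl⟩ := e.surjective j
    rw [hCp, submatrix_apply, Equiv.symm_apply_apply, Equiv.symm_apply_apply]
    rcases i with i | i <;> rcases j with j | j <;>
      simp only [vl, vr, fromBlocks_apply₁₁, fromBlocks_apply₁₂, fromBlocks_apply₂₁, fromBlocks_apply₂₂]
    · exact hm.hess i j
    · exact ⟨fun e => absurd e (by omega), fun e => absurd e (by omega)⟩
    · rw [hE, Matrix.of_apply]
      refine ⟨fun e => if_pos ⟨by omega, by omega⟩, fun e => if_neg fun e' => by omega⟩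
    · exact ⟨fun e => (hDb i j).1 (by omega), fun e => (hDb i j).2 (by omega)⟩
  obtain ⟨S, Si, hS, hpat⟩ := exists_pattern' (by omega) haH hC
  obtain ⟨A, hA⟩ : ∃ A, A = (Si * a * S).submatrix e e := ⟨_, rfl⟩
  obtain ⟨B, hB⟩ : ∃ B, B = A.toBlocks₁₂ := ⟨_, rfl⟩
  obtain ⟨D, hD⟩ : ∃ D, D = A.toBlocks₂₂ := ⟨_, rfl⟩
  have hAb : A = fromBlocks M B E D := by
    rw [← fromBlocks_toBlocks A, ← hB, ← hD]
    congr 1
    · ext i j
      show A (Sum.inl i) (Sum.inl j) = M i j
      rw [hA, submatrix_apply, hpat _ _ (by rw [vl]; omega), hCp, submatrix_apply, Equiv.symm_apply_apply,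
        Equiv.symm_apply_apply, fromBlocks_apply₁₁]
    · ext i j
      show A (Sum.inr i) (Sum.inl j) = E i j
      rw [hA, submatrix_apply, hpat _ _ (by rw [vl]; omega), hCp, submatrix_apply, Equiv.symm_apply_apply,
        Equiv.symm_apply_apply, fromBlocks_apply₂₁]
  have hBz : ∀ i (j : Fin b), (j : ℕ) + 1 < b → B i j = 0 := fun i j hj => by
    show B i j = 0
    rw [hB]
    show A (Sum.inl i) (Sum.inr j) = 0
    rw [hA, submatrix_apply, hpat _ _ (by rw [vr]; omega), hCp, submatrix_apply, Equiv.symm_apply_apply,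
      Equiv.symm_apply_apply, fromBlocks_apply₁₂, Matrix.zero_apply]
  have hDz : ∀ i (j : Fin b), (j : ℕ) + 1 < b → D i j = Db i j := fun i j hj => by
    rw [hD]
    show A (Sum.inr i) (Sum.inr j) = _
    rw [hA, submatrix_apply, hpat _ _ (by rw [vr]; omega), hCp, submatrix_apply, Equiv.symm_apply_apply,
      Equiv.symm_apply_apply, fromBlocks_apply₂₂]
  obtain ⟨Mi, hMi⟩ := (isUnit_of_det hm.det).exists_right_inv
  obtain ⟨K, hK⟩ : ∃ K, K = E * Mi * B := ⟨_, rfl⟩
  have hKcol : ∀ i (j : Fin b), (j : ℕ) + 1 < b → K i j = 0 := fun i j hj => by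
    rw [hK, Matrix.mul_apply]
    exact Finset.sum_eq_zero fun l _ => by rw [hBz l j hj, mul_zero]
  have hKrow : ∀ (i : Fin b) (j : Fin b), (i : ℕ) ≠ 0 → K i j = 0 := fun i j hi => by
    rw [hK, Matrix.mul_assoc, Matrix.mul_apply]
    exact Finset.sum_eq_zero fun l _ => by rw [hE, Matrix.of_apply, if_neg fun e => hi e.1, zero_mul]
  obtain ⟨D', hD'⟩ : ∃ D', D' = K + D := ⟨_, rfl⟩
  have hDD : D = E * Mi * B + D' := by rw [hD', ← hK, ← add_assoc, h.add_self_mat, zero_add]
  have hAdet : A.det = 1 := by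
    rw [hA, det_submatrix_equiv_self, det_mul, det_mul, mul_right_comm, ← det_mul, mul_eq_one_comm.1 hS, det_one,
      one_mul, ha1]
  have hD'det : D'.det = 1 := by
    have e1 : fromBlocks M B E D = fromBlocks 1 0 (E * Mi) 1 * fromBlocks M B 0 D' := by
      rw [fromBlocks_multiply, hDD, Matrix.mul_assoc E Mi M, mul_eq_one_comm.1 hMi]
      simp
    have := congrArg det e1
    rwa [← hAb, hAdet, det_mul, det_fromBlocks_zero₁₂, det_fromBlocks_zero₂₁, det_one, det_one, hm.det, one_mul,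
      one_mul, one_mul, eq_comm] at this
  have htrA : A.trace = a.trace := by
    rw [hA, Matrix.trace, show (∑ i, ((Si * a * S).submatrix e e).diag i) = ∑ i, (Si * a * S) (e i) (e i) from rfl,
      e.sum_comp (fun i => (Si * a * S) i i)]
    show (Si * a * S).trace = _
    rw [Matrix.trace_mul_cycle, hS, Matrix.one_mul]
  have hD'tr : D'.trace = a.trace + (J : F) := by
    have hKt : K.trace = 0 := Finset.sum_eq_zero fun i _ => by
      rcases Nat.eq_zero_or_pos (i : ℕ) with hi | hi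
      · exact hKcol i i (by omega)
      · exact hKrow i i (by omega)
    rw [hD', Matrix.trace_add, hKt, zero_add, ← htrA, hAb]
    simp only [Matrix.trace, Fintype.sum_sum_type, diag_apply, fromBlocks_apply₁₁, fromBlocks_apply₂₂]
    have := hm.trace
    simp only [Matrix.trace, diag_apply] at this
    rw [this]
    linear_combination -(J : F) * h.two
  have hdec2 : Dec T2 D' := hbot D' (fun i j hj => by rw [hD', Matrix.add_apply, hKcol i j hj, zero_add, hDz i j hj])
    hD'det hD'tr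
  have hp1 : aeval P (pg w J) = 0 := by rw [aeval_pg, hm.nil]
  have hdec : Dec (fromBlocks P 0 0 T2) A := by
    rw [hAb, hDD]
    exact dec_fromBlocks hp1 (by rw [aeval_pg]; exact hg2.pow J) hMi hm.dec hdec2 B E
  have hS' : S.submatrix e e * Si.submatrix e e = 1 := by
    rw [submatrix_mul_equiv, hS, submatrix_one_equiv]
  have hdec' : Dec (fromBlocks P 0 0 T2) (a.submatrix e e) := by
    refine Dec.of_sim hS' ?_ hdec
    rw [hA, submatrix_mul_equiv, submatrix_mul_equiv, ← Matrix.mul_assoc, ← Matrix.mul_assoc, hS, Matrix.one_mul]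
  obtain ⟨Pi', hPi⟩ := (isUnit_of_det hm.detP).exists_right_inv
  have hgP : IsUnit (gq w (ct σ Pi')) ∨ J = 0 := by
    by_cases hJ : J = 0
    · exact Or.inr hJ
    refine Or.inl ?_
    suffices hu : IsUnit (σ 1 • (P * P) + σ w • P + 1) by
      simpa [gq] using isUnit_recip h hPi w 1 hu
    have e1 : σ 1 • (P * P) + σ w • P + 1 = gq w P + (P + (0 : F) • 1) := by
      rw [map_one, hw.conj h, gq]; module
    rw [e1]
    exact isUnit_nil hm.nil (isUnit_add h hw hm.nil 0) ((commute_gq w P).symm.add_right ((Commute.one_right _).smul_right _))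
  refine finish h hg hdet hfr hk hn (ha ▸ ha1) e (T := fromBlocks P 0 0 T2) (Ti := fromBlocks Pi' 0 0 T2i) ?_
    (ha ▸ hdec') ?_ ?_ (p := pg w J * p2) ?_ ?_ fun c hc => ?_
  · simp [fromBlocks_multiply, hPi, hT2]
  · rw [det_fromBlocks_zero₁₂, hm.detP, hT2d, one_mul]
  · rw [← fromBlocks_one, fromBlocks_add]
    simp only [add_zero]
    have := isUnit_add h hw hm.nil 1
    rw [one_smul] at this
    exact SpComm.isUnit_fromBlocks_diag this hT21
  · rw [SpComm.aeval_fromBlocks, map_mul, map_mul, hp1, hp2, Matrix.zero_mul, Matrix.mul_zero, fromBlocks_zero]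
  · rw [show ct σ (fromBlocks Pi' 0 0 T2i) = fromBlocks (ct σ Pi') 0 0 (ct σ T2i) by
      rw [ct_fromBlocks, ct_zero, ct_zero], SpComm.aeval_fromBlocks, map_mul, map_mul, aeval_pg, aeval_pg]
    refine SpComm.isUnit_fromBlocks_diag (IsUnit.mul ?_ (hp2P P Pi' hPi hm.nil)) ((hg2i.pow J).mul hp2i)
    rcases hgP with hu | hJ
    · exact hu.pow J
    · subst hJ; simp
  · obtain ⟨R, Ri, hR, hRT, hRd⟩ := hcen c hc
    refine ⟨fromBlocks 1 0 0 R, fromBlocks 1 0 0 Ri, ?_, ?_, ?_⟩
    · simp [fromBlocks_multiply, hR]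
    · simp [fromBlocks_multiply, hRT]
    · rw [det_fromBlocks_zero₁₂, det_one, one_mul, hRd]

/-- Corner blocks of odd size. -/
theorem isC_odd (h : F4 σ) {g : Matrix (Fin n) (Fin n) F} (hg : UStd σ g) (hdet : g.det = 1)
    (J : ℕ) {k : ℕ} {V : Matrix (Fin n) (Fin (2 * J + 3)) F} {Z : Matrix (Fin n) (Fin k) F}
    {W : Matrix (Fin n) (Fin (2 * J + 3)) F} (hfr : Fr σ V Z W) (hk : k ≤ 1) (hn : 2 * (2 * J + 3) + k = n)
    (ha1 : (ct σ W * g * V).det = 1) (haH : IsH (ct σ W * g * V)) : IsC σ g := by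
  obtain ⟨φ, hφ, hw, hsq⟩ := h.exists_model
  obtain ⟨w, hwd⟩ : ∃ w, w = φ W4.w := ⟨_, rfl⟩
  rw [← hwd] at hw
  have hgq : ∀ M : Matrix (Fin 3) (Fin 3) W4, gq w (M.map φ) = (M * M + W4.w • M + 1).map φ := fun M => by
    ext i j
    simp [gq, Matrix.mul_apply, Matrix.one_apply, hwd, apply_ite φ]
  have hsum : ∀ M : Matrix (Fin 3) (Fin 3) W4, aeval (M.map φ) ((X : F[X]) ^ 3 + X + 1) = (M * M * M + M + 1).map φ :=
    fun M => by
      simp only [pow_succ, pow_zero, one_mul, map_add, map_mul, map_one, aeval_X, Matrix.one_mul]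
      ext i j
      simp [Matrix.mul_apply, Matrix.one_apply, apply_ite φ]
  refine isC_block h hw hg hdet J 3 (by norm_num) hfr hk hn ha1 haH (Db := !![0, 0, 0; 1, 0, 0; 0, 1, 0]) ?_
    (T2 := T3.map φ) (T2i := T3i.map φ) ?_ ?_ ?_ (p2 := X ^ 3 + X + 1) ?_ ?_ ?_ ?_ ?_ (fun c hc => ?_) ?_
  · intro i j; fin_cases i <;> fin_cases j <;> simp
  · rw [← Matrix.map_mul, show T3 * T3i = 1 by decide +kernel]; exact Matrix.map_one φ (map_zero φ) (map_one φ)
  · rw [det_map, show T3.det = 1 by decide +kernel, map_one]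
  · rw [show T3.map φ + 1 = (T3 + 1).map φ by ext i j; simp [Matrix.one_apply, apply_ite φ]]
    exact isUnit_map' hφ _ (by decide +kernel)
  · rw [hsum, show T3 * T3 * T3 + T3 + 1 = 0 by decide +kernel]; exact Matrix.map_zero φ (map_zero φ)
  · rw [hgq]; exact isUnit_map' hφ _ (by decide +kernel)
  · rw [ct_map φ hsq, hgq]; exact isUnit_map' hφ _ (by decide +kernel)
  · rw [ct_map φ hsq, hsum]; exact isUnit_map' hφ _ (by decide +kernel)
  · intro P Pi' hP hnil
    simp only [pow_succ, pow_zero, one_mul, map_add, map_mul, map_one, aeval_X, Matrix.one_mul]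
    refine isUnit_recip3 h hP ?_
    have hw2 : w * w = w + 1 := hw
    have h2 := h.two
    have e1 : P * P * P + P * P + 1 = gq w P * (P + (w + 1) • 1) + w • 1 := by
      rw [gq, Matrix.add_mul, Matrix.add_mul, Matrix.mul_add, Matrix.mul_add, Matrix.smul_mul, Matrix.mul_smul,
        Matrix.mul_smul, Matrix.one_mul, Matrix.mul_one, Matrix.mul_one]
      match_scalars <;>
        first | ring1 | linear_combination hw2 + h2 | linear_combination -hw2 - h2 | linear_combination -w * h2 |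
          linear_combination -hw2 - (w + 1) * h2 | linear_combination h2 | linear_combination -h2
    rw [e1]
    have hc : Commute (gq w P) (P + (w + 1) • 1) :=
      (commute_gq w P).symm.add_right ((Commute.one_right _).smul_right _)
    refine isUnit_nil (j := J) ?_ (isUnit_smul_one hw.ne_zero) ((Commute.one_right _).smul_right _)
    rw [hc.mul_pow, hnil, Matrix.zero_mul]
  · have hd : (T3.map φ + c • 1).det = c := by
      rw [det_fin_three]
      simp [T3]
      linear_combination h.cube hc + (1 - c) * h.two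
    obtain ⟨Ri, hRi⟩ := ((isUnit_iff_isUnit_det (T3.map φ + c • 1)).2 (by rw [hd]; exact hc.isUnit)).exists_right_inv
    exact ⟨_, Ri, hRi, by simp [Matrix.add_mul, Matrix.mul_add], hd⟩
  · intro D hD hDd _
    have hDeq : D = !![0, 0, D 0 2; 1, 0, D 1 2; 0, 1, D 2 2] := by
      ext i j
      fin_cases j
      · fin_cases i <;> simp [hD _ 0 (by norm_num)]
      · fin_cases i <;> simp [hD _ 1 (by norm_num)]
      · fin_cases i <;> simp
    have hv0 : D 0 2 = 1 := by
      rw [hDeq, det_fin_three] at hDd; simpa using hDd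
    rw [hDeq, hv0]
    exact dec_comp3 hφ h (hwd ▸ hw) _ _

/-- Companions of the two quadratics in one matrix. -/
def T4 : Matrix (Fin 4) (Fin 4) W4 := !![0, W4.w, 0, 0; 1, 1, 0, 0; 0, 0, 0, W4.w + 1; 0, 0, 1, 1]

/-- Its inverse. -/
def T4i : Matrix (Fin 4) (Fin 4) W4 := !![W4.w + 1, 1, 0, 0; W4.w + 1, 0, 0, 0; 0, 0, W4.w, 1; 0, 0, W4.w, 0]

theorem noRoot_quad (h : F4 σ) {w : F} (hw : IsW w) :
    NoRoot (1 : F) w ∧ NoRoot (1 : F) (w + 1) ∧ NoRoot w (1 : F) := by
  have h2 := h.two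
  have hw2 : w * w = w + 1 := hw
  have a1 := hw.ne_one h
  have a2 := hw.ne_zero
  refine ⟨fun x e => ?_, fun x e => ?_, fun x e => noRoot_w h hw x (by linear_combination e + w * x * h2)⟩
  · rcases h.cases hw x with rfl | rfl | rfl | rfl
    · exact a2 (by linear_combination e)
    · exact a2 (by linear_combination e)
    · exact a1 (by linear_combination e - hw2 - h2)
    · exact a1 (by linear_combination e - hw2 - (w + 1) * h2)
  · rcases h.cases hw x with rfl | rfl | rfl | rfl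
    · exact hw.succ_ne_zero h (by linear_combination e)
    · exact hw.succ_ne_zero h (by linear_combination e)
    · exact a2 (by linear_combination e - hw2 - h2)
    · exact a2 (by linear_combination e - hw2 - (w + 1) * h2)

/-- Corner blocks of even size. -/
theorem isC_even (h : F4 σ) {g : Matrix (Fin n) (Fin n) F} (hg : UStd σ g) (hdet : g.det = 1)
    (J : ℕ) {k : ℕ} {V : Matrix (Fin n) (Fin (2 * J + 4)) F} {Z : Matrix (Fin n) (Fin k) F}
    {W : Matrix (Fin n) (Fin (2 * J + 4)) F} (hfr : Fr σ V Z W) (hk : k ≤ 1) (hn : 2 * (2 * J + 4) + k = n)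
    (ha1 : (ct σ W * g * V).det = 1) (haH : IsH (ct σ W * g * V)) : IsC σ g := by
  obtain ⟨φ, hφ, hw, hsq⟩ := h.exists_model
  obtain ⟨w, hwd⟩ : ∃ w, w = φ W4.w := ⟨_, rfl⟩
  rw [← hwd] at hw
  obtain ⟨τ, hτ⟩ : ∃ τ, τ = (ct σ W * g * V).trace + (J : F) := ⟨_, rfl⟩
  obtain ⟨t, ht0, htτ⟩ : ∃ t : F, t ≠ 0 ∧ τ ≠ t := by
    by_cases h1 : τ = 1
    · exact ⟨w, hw.ne_zero, h1 ▸ (hw.ne_one h).symm⟩
    · exact ⟨1, one_ne_zero, h1⟩
  have hgq : ∀ M : Matrix (Fin 4) (Fin 4) W4, gq w (M.map φ) = (M * M + W4.w • M + 1).map φ := fun M => by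
    ext i j
    simp [gq, Matrix.mul_apply, Matrix.one_apply, hwd, apply_ite φ]
  have hsum : ∀ M : Matrix (Fin 4) (Fin 4) W4,
      aeval (M.map φ) ((X : F[X]) ^ 4 + X + 1) = (M * M * M * M + M + 1).map φ := fun M => by
    simp only [pow_succ, pow_zero, one_mul, map_add, map_mul, map_one, aeval_X, Matrix.one_mul]
    ext i j
    simp [Matrix.mul_apply, Matrix.one_apply, apply_ite φ]
  obtain ⟨nr1, nr2, -⟩ := noRoot_quad h hw
  obtain ⟨e4, he4⟩ : ∃ e : Fin 2 ⊕ Fin 2 ≃ Fin 4, e = finSumFinEquiv := ⟨_, rfl⟩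
  have hT4 : (fromBlocks (comp2 1 w) 0 0 (comp2 1 (w + 1))).submatrix e4.symm e4.symm = T4.map φ := by
    ext i j
    obtain ⟨i, rfl⟩ := e4.surjective i
    obtain ⟨j, rfl⟩ := e4.surjective j
    rw [submatrix_apply, Equiv.symm_apply_apply, Equiv.symm_apply_apply, he4]
    rcases i with i | i <;> rcases j with j | j <;> fin_cases i <;> fin_cases j <;>
      simp [T4, comp2, finSumFinEquiv, Fin.castAdd, Fin.natAdd, hwd, h.neg_eq]
  refine isC_block h hw hg hdet J 4 (by norm_num) hfr hk hn ha1 haH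
    (Db := !![0, 1, 0, 0; 1, t, 0, 0; 0, 1, 0, 0; 0, 0, 1, 0]) ?_
    (T2 := T4.map φ) (T2i := T4i.map φ) ?_ ?_ ?_ (p2 := X ^ 4 + X + 1) ?_ ?_ ?_ ?_ ?_ (fun c hc => ?_) ?_
  · intro i j; fin_cases i <;> fin_cases j <;> simp
  · rw [← Matrix.map_mul, show T4 * T4i = 1 by decide +kernel]; exact Matrix.map_one φ (map_zero φ) (map_one φ)
  · rw [det_map, show T4.det = 1 by decide +kernel, map_one]
  · rw [show T4.map φ + 1 = (T4 + 1).map φ by ext i j; simp [Matrix.one_apply, apply_ite φ]]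
    exact isUnit_map' hφ _ (by decide +kernel)
  · rw [hsum, show T4 * T4 * T4 * T4 + T4 + 1 = 0 by decide +kernel]; exact Matrix.map_zero φ (map_zero φ)
  · rw [hgq]; exact isUnit_map' hφ _ (by decide +kernel)
  · rw [ct_map φ hsq, hgq]; exact isUnit_map' hφ _ (by decide +kernel)
  · rw [ct_map φ hsq, hsum]; exact isUnit_map' hφ _ (by decide +kernel)
  · intro P Pi' hP hnil
    have e0 : Pi' * P = 1 := mul_eq_one_comm.1 hP
    have hid : aeval (ct σ Pi') ((X : F[X]) ^ 4 + X + 1) =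
        ct σ (Pi' * Pi' * Pi' * Pi' * (P * P * P * P + P * P * P + 1)) := by
      have e1 : ∀ X : Matrix (Fin (2 * J)) (Fin (2 * J)) F, Pi' * (P * X) = X := fun X => by
        rw [← Matrix.mul_assoc, e0, Matrix.one_mul]
      simp only [pow_succ, pow_zero, one_mul, map_add, map_mul, map_one, aeval_X, Matrix.one_mul, Matrix.mul_add,
        Matrix.mul_one, Matrix.mul_assoc, e1, e0, ct_add, ct_mul, ct_one]
      abel
    rw [hid]
    refine isUnit_ct σ (((((IsUnit.of_mul_eq_one P e0).mul (IsUnit.of_mul_eq_one P e0)).mul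
      (IsUnit.of_mul_eq_one P e0)).mul (IsUnit.of_mul_eq_one P e0)).mul ?_)
    have hw2 : w * w = w + 1 := hw
    have h2 := h.two
    have e1 : P * P * P * P + P * P * P + 1 = gq w P * (P * P + (w + 1) • P) + (w + 1) • (P + w • 1) := by
      rw [gq, Matrix.add_mul, Matrix.add_mul, Matrix.mul_add, Matrix.mul_add, Matrix.smul_mul, Matrix.mul_smul,
        Matrix.mul_smul, Matrix.one_mul, smul_add, smul_smul, Matrix.smul_mul, ← Matrix.mul_assoc,
        ← Matrix.mul_assoc]
      match_scalars <;>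
        first | ring1 | linear_combination h2 | linear_combination hw2 + h2 | linear_combination -hw2 - h2 | linear_combination -h2 | linear_combination -w * h2 |
          linear_combination -hw2 - (w + 1) * h2 | linear_combination -hw2 - w * h2 | linear_combination -(w + 1) * h2
    rw [e1]
    have hc : Commute (gq w P) (P * P + (w + 1) • P) :=
      ((commute_gq w P).symm.mul_right (commute_gq w P).symm).add_right ((commute_gq w P).symm.smul_right _)
    have hu : IsUnit ((w + 1) • (P + w • 1)) := (isUnit_add h hw hnil w).smul (Units.mk0 _ (hw.succ_ne_zero h))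
    refine isUnit_nil (j := J) (by rw [hc.mul_pow, hnil, Matrix.zero_mul]) hu ?_
    have c1 : Commute (gq w P * (P * P + (w + 1) • P)) P :=
      ((commute_gq w P).symm.mul_left (((Commute.refl P).mul_left (Commute.refl P)).add_left
        ((Commute.refl P).smul_left _)))
    exact (c1.add_right ((Commute.one_right _).smul_right _)).smul_right _
  · obtain ⟨R, hR⟩ : ∃ R, R = (fromBlocks ((c ^ 2) • (1 : Matrix (Fin 2) (Fin 2) F)) 0 0
        (1 : Matrix (Fin 2) (Fin 2) F)).submatrix e4.symm e4.symm := ⟨_, rfl⟩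
    have hd : R.det = c := by
      rw [hR, det_submatrix_equiv_self, det_fromBlocks_zero₁₂, det_smul, det_one, Fintype.card_fin]
      linear_combination h.fourth c
    obtain ⟨Ri, hRi⟩ := ((isUnit_iff_isUnit_det R).2 (by rw [hd]; exact hc.isUnit)).exists_right_inv
    refine ⟨R, Ri, hRi, ?_, hd⟩
    rw [← hT4, hR, submatrix_mul_equiv, submatrix_mul_equiv, fromBlocks_multiply, fromBlocks_multiply]
    simp
  · intro D hD hDd hDt
    rw [← hτ] at hDt
    obtain ⟨B4, hB4⟩ : ∃ B : Matrix (Fin 2) (Fin 2) F, B = !![0, D 0 3; 0, D 1 3] := ⟨_, rfl⟩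
    obtain ⟨C4, hC4⟩ : ∃ C : Matrix (Fin 2) (Fin 2) F, C = !![0, 1; 0, 0] := ⟨_, rfl⟩
    obtain ⟨S4, hS4⟩ : ∃ S : Matrix (Fin 2) (Fin 2) F, S = !![0, D 2 3 + D 0 3; 1, D 3 3] := ⟨_, rfl⟩
    have hAi : (!![0, 1; 1, t] : Matrix (Fin 2) (Fin 2) F) * !![t, 1; 1, 0] = 1 := by
      ext i j; fin_cases i <;> fin_cases j <;> simp [Matrix.mul_apply, Fin.sum_univ_two, h.add_self]
    have hDeq : D.submatrix e4 e4 = fromBlocks !![0, 1; 1, t] B4 C4 (C4 * !![t, 1; 1, 0] * B4 + S4) := by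
      ext i j
      rw [submatrix_apply, he4]
      rcases i with i | i <;> rcases j with j | j <;> fin_cases i <;> fin_cases j <;>
        simp [finSumFinEquiv, Fin.castAdd, Fin.natAdd, hB4, hC4, hS4, Matrix.mul_apply, Fin.sum_univ_two, -Matrix.cons_mul] <;>
        first | exact (h.add_self _).symm | linear_combination -(D 0 3) * h.two | linear_combination (D 0 3) * h.two | (rw [hD _ _ (by norm_num)]; simp)
    have h4d : (!![0, 1; 1, t] : Matrix (Fin 2) (Fin 2) F).det = 1 := by rw [det_fin_two]; simp [h.neg_eq]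
    have hS4d : S4.det = 1 := by
      have e1 : fromBlocks !![0, 1; 1, t] B4 C4 (C4 * !![t, 1; 1, 0] * B4 + S4) =
          fromBlocks 1 0 (C4 * !![t, 1; 1, 0]) 1 * fromBlocks !![0, 1; 1, t] B4 0 S4 := by
        rw [fromBlocks_multiply, Matrix.mul_assoc C4 _ (!![0, 1; 1, t]), mul_eq_one_comm.1 hAi]
        simp
      have := congrArg det e1
      rwa [← hDeq, det_submatrix_equiv_self, hDd, det_mul, det_fromBlocks_zero₁₂, det_fromBlocks_zero₂₁, det_one,
        h4d, one_mul, one_mul, one_mul, eq_comm] at this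
    have hS4t : S4.trace ≠ 0 := by
      rw [hS4]
      simp only [Matrix.trace, Fin.sum_univ_two, diag_apply]
      simp
      intro e
      apply htτ
      rw [← hDt]
      simp [Matrix.trace, Fin.sum_univ_four, hD 0 0 (by norm_num), hD 1 1 (by norm_num), hD 2 2 (by norm_num), e]
    obtain ⟨q1, hq1⟩ : ∃ q : F[X], q = X ^ 2 + X + Polynomial.C w := ⟨_, rfl⟩
    have hq : aeval (comp2 (1 : F) w) q1 = 0 ∧ IsUnit (aeval (comp2 (1 : F) (w + 1)) q1) := by
      have e : ∀ d : F, aeval (comp2 (1 : F) d) q1 = (w - d) • 1 := fun d => by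
        rw [hq1]
        simp only [map_add, map_pow, aeval_X, aeval_C, Algebra.algebraMap_eq_smul_one, sq]
        ext i j
        fin_cases i <;> fin_cases j <;> simp [comp2, Matrix.mul_apply, Fin.sum_univ_two, -Matrix.cons_mul] <;>
          first | ring1 | linear_combination (0 : F) * h.two | linear_combination h.two | linear_combination -d * h.two
      refine ⟨by rw [e, sub_self, zero_smul], ?_⟩
      rw [e, show w - (w + 1) = -1 by ring]
      exact isUnit_smul_one (neg_ne_zero.2 one_ne_zero)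
    have hdec := dec_fromBlocks hq.1 hq.2 hAi
      (dec_two h one_ne_zero hw.ne_zero nr1 h4d (by simpa [Matrix.trace, Fin.sum_univ_two] using ht0))
      (dec_two h one_ne_zero (hw.succ_ne_zero h) nr2 hS4d hS4t) B4 C4
    rw [← hDeq] at hdec
    have := dec_submatrix hdec e4.symm
    rw [hT4] at this
    simpa [Matrix.submatrix_submatrix] using this

/-- A good corner gives a commutator. -/
theorem isC_of_good (h : F4 σ) {g : Matrix (Fin n) (Fin n) F} (hg : UStd σ g) (hdet : g.det = 1) (hgood : Good σ g) :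
    IsC σ g := by
  obtain ⟨m, k, V, Z, W, hfr, hk, hn, hm, ha1, htr, hH⟩ := hgood
  rcases Nat.lt_or_ge m 3 with h3 | h3
  · obtain rfl : m = 2 := by omega
    obtain ⟨φ, hφ, hw, hsq⟩ := h.exists_model
    obtain ⟨-, -, nr⟩ := noRoot_quad h hw
    have hT : comp2 (φ W4.w) (1 : F) = (!![0, 1; 1, W4.w] : Matrix (Fin 2) (Fin 2) W4).map φ := by
      ext i j; fin_cases i <;> fin_cases j <;> simp [comp2, h.neg_eq]
    have hgq : ∀ M : Matrix (Fin 2) (Fin 2) W4, gq (φ W4.w) (M.map φ) = (M * M + W4.w • M + 1).map φ := fun M => by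
      ext i j
      simp [gq, Matrix.mul_apply, Matrix.one_apply, apply_ite φ]
    refine finish h hg hdet hfr hk hn ha1 (Equiv.refl _) (T := comp2 (φ W4.w) 1)
      (Ti := (!![W4.w, 1; 1, 0] : Matrix (Fin 2) (Fin 2) W4).map φ) ?_ ?_ ?_ ?_
      (p := pg (φ W4.w) 1) ?_ ?_ fun c hc => ?_
    · rw [hT, ← Matrix.map_mul, show (!![0, 1; 1, W4.w] : Matrix (Fin 2) (Fin 2) W4) * !![W4.w, 1; 1, 0] = 1 by
        decide +kernel]
      exact Matrix.map_one φ (map_zero φ) (map_one φ)
    · exact dec_two h hw.ne_zero one_ne_zero nr ha1 (htr rfl)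
    · rw [det_fin_two]; simp [comp2]
    · rw [hT, show (!![0, 1; 1, W4.w] : Matrix (Fin 2) (Fin 2) W4).map φ + 1 =
        ((!![0, 1; 1, W4.w] : Matrix (Fin 2) (Fin 2) W4) + 1).map φ by ext i j; simp [Matrix.one_apply, apply_ite φ]]
      exact isUnit_map' hφ _ (by decide +kernel)
    · rw [aeval_pg, pow_one, hT, hgq, show (!![0, 1; 1, W4.w] : Matrix (Fin 2) (Fin 2) W4) * !![0, 1; 1, W4.w] +
        W4.w • !![0, 1; 1, W4.w] + 1 = 0 by decide +kernel]
      exact Matrix.map_zero φ (map_zero φ)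
    · rw [aeval_pg, pow_one, ct_map φ hsq, hgq]
      exact isUnit_map' hφ _ (by decide +kernel)
    · obtain ⟨R, hR⟩ : ∃ R : Matrix (Fin 2) (Fin 2) F, R = (c ^ 2) • 1 := ⟨_, rfl⟩
      have hd : R.det = c := by
        rw [hR, det_smul, det_one, Fintype.card_fin]
        linear_combination h.fourth c
      obtain ⟨Ri, hRi⟩ := ((isUnit_iff_isUnit_det R).2 (by rw [hd]; exact hc.isUnit)).exists_right_inv
      exact ⟨R, Ri, hRi, by rw [hR]; simp, hd⟩
  · rcases Nat.even_or_odd' m with ⟨j, rfl | rfl⟩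
    · obtain ⟨J, rfl⟩ : ∃ J, j = J + 2 := ⟨j - 2, by omega⟩
      exact isC_even h hg hdet J hfr hk hn ha1 (hH (by omega))
    · obtain ⟨J, rfl⟩ : ∃ J, j = J + 1 := ⟨j - 1, by omega⟩
      exact isC_odd h hg hdet J hfr hk hn ha1 (hH (by omega))

end CfsgLib.SUComm.Two
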