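import Cfsg.Agent.Lib.Classical.SUComm.Two.Corner
import Cfsg.Agent.Lib.Classical.SUComm.Two.Linked

/-!
# Normal forms of Hessenberg matrices
-/

set_option autoImplicit false
set_option linter.unusedSectionVars false

namespace CfsgLib.SUComm.Two

open Matrix CfsgLib.Classical

variable {F : Type*} [Field F] [Fintype F] {σ : F →+* F}

/-- A Hessenberg matrix can be brought to any pattern of its first columns. -/
theorem exists_pattern {m : ℕ} {a : Matrix (Fin (m + 1)) (Fin (m + 1)) F} (ha : IsH a)
    {C : Matrix (Fin (m + 1)) (Fin (m + 1)) F} (hC : Hess C) :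
    ∃ S Si : Matrix (Fin (m + 1)) (Fin (m + 1)) F, S * Si = 1 ∧
      ∀ i j : Fin (m + 1), (j : ℕ) < m → (Si * a * S) i j = C i j := by
  have key : ∀ k : ℕ, k ≤ m → ∃ s : Fin (m + 1) → Fin (m + 1) → F,
      (∀ j : Fin (m + 1), (j : ℕ) ≤ k → (∀ i : Fin (m + 1), j < i → s j i = 0) ∧ s j j ≠ 0) ∧
      ∀ j : Fin (m + 1), (j : ℕ) < k →
        a *ᵥ s j = ∑ i ∈ Finset.univ.filter (fun i : Fin (m + 1) => (i : ℕ) ≤ (j : ℕ) + 1), C i j • s i := by
    intro k
    induction k with
    | zero =>
      intro _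
      refine ⟨fun _ => Pi.single 0 1, fun j hj => ?_, fun j hj => absurd hj (Nat.not_lt_zero _)⟩
      obtain rfl : j = 0 := Fin.ext (by simpa using hj)
      exact ⟨fun i hi => by simp [Pi.single_apply, ne_of_gt hi], by simp⟩
    | succ k ih =>
      intro hk
      obtain ⟨s, hs1, hs2⟩ := ih (by omega)
      obtain ⟨jk, hjk⟩ : ∃ jk : Fin (m + 1), jk = ⟨k, by omega⟩ := ⟨_, rfl⟩
      obtain ⟨jn, hjn⟩ : ∃ jn : Fin (m + 1), jn = ⟨k + 1, by omega⟩ := ⟨_, rfl⟩
      have vk : (jk : ℕ) = k := by rw [hjk]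
      have vn : (jn : ℕ) = k + 1 := by rw [hjn]
      obtain ⟨new, hnew⟩ : ∃ new : Fin (m + 1) → F, new = a *ᵥ s jk -
          ∑ i ∈ Finset.univ.filter (fun i : Fin (m + 1) => (i : ℕ) ≤ k), C i jk • s i := ⟨_, rfl⟩
      obtain ⟨hk1, hk2⟩ := hs1 jk (by omega)
      have hsum : ∀ i : Fin (m + 1), k < (i : ℕ) → new i = ∑ l, a i l * s jk l := fun i hi => by
        rw [hnew, Pi.sub_apply, Finset.sum_apply, Finset.sum_eq_zero, sub_zero]
        · rfl
        · intro l hl
          rw [Finset.mem_filter] at hl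
          rw [Pi.smul_apply, (hs1 l hl.2).1 i (by rw [Fin.lt_def]; omega), smul_zero]
      refine ⟨Function.update s jn new, fun j hj => ?_, fun j hj => ?_⟩
      · rcases eq_or_ne j jn with rfl | hne
        · rw [Function.update_self]
          refine ⟨fun i hi => ?_, ?_⟩
          · rw [hsum i (by rw [Fin.lt_def] at hi; omega)]
            refine Finset.sum_eq_zero fun l _ => ?_
            rcases le_or_gt l jk with hl | hl
            · rw [(ha i l).1 (by rw [Fin.lt_def] at hi; rw [Fin.le_def] at hl; omega), zero_mul]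
            · rw [hk1 l hl, mul_zero]
          · rw [hsum _ (by omega), Finset.sum_eq_single jk]
            · exact mul_ne_zero ((ha _ _).2 (by omega)) hk2
            · intro l _ hl
              rcases lt_or_gt_of_ne hl with hl | hl
              · rw [(ha _ l).1 (by rw [Fin.lt_def] at hl; omega), zero_mul]
              · rw [hk1 l hl, mul_zero]
            · simp
        · rw [Function.update_of_ne hne]
          exact hs1 j (by have : (j : ℕ) ≠ k + 1 := fun e => hne (Fin.ext (by omega)); omega)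
      · have hne : j ≠ jn := fun e => by rw [e] at hj; omega
        rw [Function.update_of_ne hne]
        rcases eq_or_ne j jk with rfl | hjk'
        · have e : Finset.univ.filter (fun i : Fin (m + 1) => (i : ℕ) ≤ (j : ℕ) + 1) =
              insert jn (Finset.univ.filter (fun i : Fin (m + 1) => (i : ℕ) ≤ k)) := by
            ext i
            simp only [Finset.mem_filter, Finset.mem_univ, true_and, Finset.mem_insert, Fin.ext_iff]
            omega
          rw [e, Finset.sum_insert (by simp; omega), Function.update_self, (hC jn j).1 (by omega), one_smul,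
            Finset.sum_congr rfl fun l hl => by
              rw [Function.update_of_ne (fun e => by rw [e, Finset.mem_filter] at hl; omega)]]
          rw [hnew]; abel
        · have hjlt : (j : ℕ) < k := by
            have : (j : ℕ) ≠ k := fun e => hjk' (Fin.ext (by omega))
            omega
          rw [hs2 j hjlt]
          refine Finset.sum_congr rfl fun i hi => ?_
          rw [Finset.mem_filter] at hi
          rw [Function.update_of_ne (fun e => by rw [e] at hi; omega)]
  obtain ⟨s, hs1, hs2⟩ := key m le_rfl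
  obtain ⟨S, hS⟩ : ∃ S : Matrix (Fin (m + 1)) (Fin (m + 1)) F, S = Matrix.of fun i j => s j i := ⟨_, rfl⟩
  have hSu : IsUnit S := by
    rw [isUnit_iff_isUnit_det, det_of_upperTriangular (fun i j hij => by rw [hS]; exact (hs1 j (by omega)).1 i hij)]
    exact isUnit_iff_ne_zero.2 (Finset.prod_ne_zero_iff.2 fun i _ => by rw [hS]; exact (hs1 i (by omega)).2)
  obtain ⟨Si, hSi⟩ := hSu.exists_right_inv
  refine ⟨S, Si, hSi, fun i j hj => ?_⟩
  have hcol : (fun r => (a * S) r j) = fun r => (S * C) r j := by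
    funext r
    have := congrFun (hs2 j hj) r
    rw [Finset.sum_apply] at this
    rw [Matrix.mul_apply, Matrix.mul_apply, hS]
    simp only [Matrix.of_apply]
    rw [show ∑ l, a r l * s j l = (a *ᵥ s j) r from rfl, this]
    rw [Finset.sum_filter]
    refine Finset.sum_congr rfl fun l _ => ?_
    split_ifs with hl
    · simp [mul_comm]
    · rw [(hC l j).2 (by omega), mul_zero]
  calc (Si * a * S) i j = ∑ r, Si i r * (a * S) r j := by rw [Matrix.mul_assoc, Matrix.mul_apply]
    _ = ∑ r, Si i r * (S * C) r j := Finset.sum_congr rfl fun r _ => by rw [congrFun hcol r]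
    _ = (Si * (S * C)) i j := (Matrix.mul_apply ..).symm
    _ = C i j := by rw [← Matrix.mul_assoc, mul_eq_one_comm.1 hSi, Matrix.one_mul]

/-- Non-scalar `2 × 2` matrices are similar to their companion. -/
theorem sim_companion2 {a : Matrix (Fin 2) (Fin 2) F} (hns : a 0 1 ≠ 0 ∨ a 1 0 ≠ 0 ∨ a 0 0 ≠ a 1 1) :
    Sim a !![0, -a.det; 1, a.trace] := by
  obtain ⟨x, y, hxy⟩ : ∃ x y : F, x * (a 1 0 * x + a 1 1 * y) - y * (a 0 0 * x + a 0 1 * y) ≠ 0 := by
    by_contra hc
    push Not at hc
    have e1 := hc 1 0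
    have e2 := hc 0 1
    have e3 := hc 1 1
    have h10 : a 1 0 = 0 := by linear_combination e1
    have h01 : a 0 1 = 0 := by linear_combination -e2
    rcases hns with h | h | h
    · exact h h01
    · exact h h10
    · exact h (by linear_combination -e3 + h10 - h01)
  refine ⟨!![x, a 0 0 * x + a 0 1 * y; y, a 1 0 * x + a 1 1 * y], (isUnit_iff_isUnit_det _).2 ?_, ?_⟩
  · rw [det_fin_two]; simp
    exact fun e => hxy (by linear_combination e)
  · ext i j
    fin_cases i <;> fin_cases j <;>
      simp [Matrix.mul_apply, Fin.sum_univ_two, det_fin_two, Matrix.trace, -Matrix.cons_mul] <;> ring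

/-- A `2 × 2` matrix of determinant one and non-zero trace decomposes. -/
theorem dec_two (h : F4 σ) {τ δ : F} (hτ : τ ≠ 0) (hδ : δ ≠ 0) (hnr : NoRoot τ δ) {a : Matrix (Fin 2) (Fin 2) F}
    (hd : a.det = 1) (ht : a.trace ≠ 0) : Dec (comp2 τ δ) a := by
  obtain ⟨A, hA⟩ : ∃ A : Matrix (Fin 2) (Fin 2) F, A = !![1, a.trace; 1, 1 + 1 * a.trace] := ⟨_, rfl⟩
  have hdec : Dec (comp2 τ δ) A := hA ▸ dec_comp2 hτ hδ hnr ht one_ne_zero
  have hAd : A.det = 1 := by rw [hA, det_fin_two]; simp
  have hAt : A.trace = a.trace := by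
    rw [hA]; simp [Matrix.trace, Fin.sum_univ_two, ← add_assoc, h.add_self]
  have hna : a 0 1 ≠ 0 ∨ a 1 0 ≠ 0 ∨ a 0 0 ≠ a 1 1 := by
    by_contra hc
    push Not at hc
    apply ht
    simp [Matrix.trace, Fin.sum_univ_two, hc.2.2, h.add_self]
  have h1 := sim_companion2 hna
  have h2 := sim_companion2 (a := A) (Or.inr (Or.inl (by rw [hA]; simp)))
  rw [hd] at h1
  rw [hAd, hAt] at h2
  obtain ⟨S, hS, e⟩ := h1.trans (sim_symm h2)
  obtain ⟨Si, hSi⟩ := hS.exists_right_inv
  exact Dec.of_sim hSi e hdec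

end CfsgLib.SUComm.Two
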