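import Cfsg.Agent.Lib.Classical.SUComm.Two.Basic
import Cfsg.Agent.Lib.Classical.SUComm.Main

/-!
# Orthogonal complements and orthonormal completion
-/

set_option autoImplicit false
set_option linter.unusedSectionVars false

namespace CfsgLib.SUComm.Two

open Matrix CfsgLib.Classical

variable {F : Type*} [Field F] [Fintype F] {σ : F →+* F} {n : ℕ}

/-- The vectors orthogonal to a subspace. -/
def perp (σ : F →+* F) (S : Submodule F (Fin n → F)) : Submodule F (Fin n → F) where
  carrier := {x | ∀ y ∈ S, fh σ x y = 0}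
  add_mem' := fun {a b} ha hb y hy => by rw [fh_add_left, ha y hy, hb y hy, add_zero]
  zero_mem' := fun y _ => fh_zero_left y
  smul_mem' := fun c x hx y hy => by rw [fh_smul_left, hx y hy, mul_zero]

theorem mem_perp {S : Submodule F (Fin n → F)} {x : Fin n → F} : x ∈ perp σ S ↔ ∀ y ∈ S, fh σ x y = 0 := Iff.rfl

theorem perp_anti {S T : Submodule F (Fin n → F)} (h : S ≤ T) : perp σ T ≤ perp σ S :=
  fun _ hx y hy => hx y (h hy)

theorem mem_perp_span {s : Set (Fin n → F)} {x : Fin n → F} :
    x ∈ perp σ (Submodule.span F s) ↔ ∀ y ∈ s, fh σ x y = 0 := by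
  refine ⟨fun h y hy => h y (Submodule.subset_span hy), fun h y hy => ?_⟩
  induction hy using Submodule.span_induction with
  | mem y hy => exact h y hy
  | zero => exact fh_zero_right x
  | add a b _ _ ha hb => rw [fh_add_right, ha, hb, add_zero]
  | smul c a _ ha => rw [fh_smul_right, ha, mul_zero]

theorem mem_perp_one {v x : Fin n → F} : x ∈ perp σ (Submodule.span F {v}) ↔ fh σ x v = 0 := by
  rw [mem_perp_span]; simp

theorem fh_symm (h : F4 σ) {x y : Fin n → F} (e : fh σ x y = 0) : fh σ y x = 0 := by
  rw [← fh_conj _ _ h.conj, e, map_zero]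

theorem fh_mulVec (h : F4 σ) {a b : Type*} [Fintype a] (M : Matrix (Fin n) a F) (N : Matrix (Fin n) b F)
    (i : b) (j : a) : (ct σ N * M) i j = fh σ (fun k => M k j) fun k => N k i := by
  simp [Matrix.mul_apply, ct, fh, mul_comm]

theorem finrank_perp (h : F4 σ) (S : Submodule F (Fin n → F)) :
    Module.finrank F (perp σ S) + Module.finrank F S = n := by
  let b := Module.finBasis F S
  obtain ⟨B, hB⟩ : ∃ B : Matrix (Fin n) (Fin (Module.finrank F S)) F, B = Matrix.of fun k i => (b i : Fin n → F) k :=
    ⟨_, rfl⟩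
  have hinj : Function.Injective (fun y => B *ᵥ y) := by
    intro y y' e
    have hy : ∀ y, B *ᵥ y = ((∑ i, y i • b i : S) : Fin n → F) := fun y => by
      funext k
      simp [hB, Matrix.mulVec, dotProduct, mul_comm]
    simp only [hy] at e
    have := Subtype.ext e
    funext i
    have h1 := congrArg (fun z => b.repr z i) this
    simpa [Finsupp.single_apply] using h1
  have hinj' : Function.Injective (Matrix.mulVecLin (B.map σ)) := by
    rw [← LinearMap.ker_eq_bot, LinearMap.ker_eq_bot']
    intro y hy
    have : B *ᵥ (fun i => σ (y i)) = B *ᵥ 0 := by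
      rw [Matrix.mulVec_zero]
      funext k
      have := congrArg σ (congrFun hy k)
      simpa [Matrix.mulVec, dotProduct, h.conj] using this
    funext i
    simpa using congrFun (hinj this) i
  have hrange : Module.finrank F (LinearMap.range (Matrix.mulVecLin (ct σ B))) = Module.finrank F S := by
    show (ct σ B).rank = _
    rw [ct, Matrix.rank_transpose, Matrix.rank, LinearMap.finrank_range_of_inj hinj', Module.finrank_fintype_fun_eq_card,
      Fintype.card_fin]
  have hker : LinearMap.ker (Matrix.mulVecLin (ct σ B)) = perp σ S := by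
    ext x
    rw [LinearMap.mem_ker, Matrix.mulVecLin_apply]
    have e : ∀ i, (ct σ B *ᵥ x) i = fh σ x (b i : Fin n → F) := fun i => by
      simp [Matrix.mulVec, dotProduct, ct, fh, hB, mul_comm]
    constructor
    · intro hx y hy
      obtain ⟨c, hc⟩ : ∃ c : Fin (Module.finrank F S) → F, ∑ i, c i • (b i : Fin n → F) = y :=
        ⟨b.repr ⟨y, hy⟩, by
          have := congrArg (fun z : S => (z : Fin n → F)) (b.sum_repr ⟨y, hy⟩)
          simp only [Submodule.coe_sum, Submodule.coe_smul] at this
          exact this⟩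
      rw [← hc, fh]
      simp only [Finset.sum_apply, Pi.smul_apply, smul_eq_mul, map_sum, map_mul, Finset.mul_sum]
      rw [Finset.sum_comm]
      refine Finset.sum_eq_zero fun i _ => ?_
      have h0 : fh σ x (b i : Fin n → F) = 0 := by rw [← e, hx]; rfl
      rw [← mul_zero (σ (c i)), ← h0, fh, Finset.mul_sum]
      exact Finset.sum_congr rfl fun k _ => by ring
    · intro hx
      funext i
      rw [e]; exact hx _ (b i).2
  have := (Matrix.mulVecLin (ct σ B)).finrank_range_add_finrank_ker
  rw [hrange, hker, Module.finrank_fin_fun] at this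
  omega

theorem perp_perp (h : F4 σ) (S : Submodule F (Fin n → F)) : perp σ (perp σ S) = S := by
  have hle : S ≤ perp σ (perp σ S) := fun x hx y hy => fh_symm h (hy x hx)
  refine (Submodule.eq_of_le_of_finrank_eq hle ?_).symm
  have := finrank_perp h S
  have := finrank_perp h (perp σ S)
  omega

theorem finrank_span_le_one (v : Fin n → F) : Module.finrank F (Submodule.span F {v}) ≤ 1 :=
  (finrank_span_le_card ({v} : Set (Fin n → F))).trans (by simp)

/-- A totally isotropic subspace has at most half the dimension. -/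
theorem exists_aniso (h : F4 σ) (W : Submodule F (Fin n → F)) (hW : ¬ W ≤ perp σ W) :
    ∃ w ∈ W, fh σ w w = 1 := by
  by_contra hc
  push Not at hc
  have hiso : ∀ x ∈ W, fh σ x x = 0 := fun x hx =>
    (h.fixed (fh_conj _ _ h.conj)).resolve_right (hc x hx)
  refine hW fun x hx y hy => ?_
  refine (h.three_trick (p := fh σ x y) (r := fh σ y x) (s := 0) fun t _ => ?_).1
  have := hiso (t • x + y) (W.add_mem (W.smul_mem t hx) hy)
  rw [fh_add_left, fh_add_right, fh_add_right, fh_smul_left, fh_smul_left, fh_smul_right, fh_smul_right, hiso x hx,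
    hiso y hy] at this
  linear_combination this

/-- A large subspace contains many orthonormal vectors. -/
theorem exists_on_family (h : F4 σ) (E : Submodule F (Fin n → F)) :
    ∀ j : ℕ, (∀ i < j, n + i < 2 * Module.finrank F E) →
      ∃ f : Fin j → Fin n → F, (∀ i, f i ∈ E) ∧ ∀ a b, fh σ (f a) (f b) = if a = b then 1 else 0
  | 0, _ => ⟨fun i => i.elim0, fun i => i.elim0, fun i => i.elim0⟩
  | j + 1, hj => by
    obtain ⟨f, hfE, hf⟩ := exists_on_family h E j fun i hi => hj i (Nat.lt_succ_of_lt hi)
    obtain ⟨T, hT⟩ : ∃ T, T = Submodule.span F (Set.range f) := ⟨_, rfl⟩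
    obtain ⟨W, hW⟩ : ∃ W, W = E ⊓ perp σ T := ⟨_, rfl⟩
    have hTc : Module.finrank F T ≤ j := by
      rw [hT]; exact (finrank_range_le_card f).trans (by simp)
    have hnW : ¬ W ≤ perp σ W := by
      intro hle
      -- `W` is orthogonal to `W ⊔ T`, whose dimension is the sum
      have h0 : W ⊓ T = ⊥ := by
        rw [eq_bot_iff]
        rintro x ⟨hxW, hxT⟩
        rw [hT] at hxT
        obtain ⟨c, rfl⟩ := (Submodule.mem_span_range_iff_exists_fun F).1 hxT
        rw [hW] at hxW
        have hc : ∀ a, c a = 0 := fun a => by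
          have h1 := hxW.2 (f a) (hT ▸ Submodule.subset_span ⟨a, rfl⟩)
          rw [fh_sum_left] at h1
          simpa [fh_smul_left, hf] using h1
        simp [hc]
      have h1 : W ≤ perp σ (W ⊔ T) := by
        intro x hx y hy
        obtain ⟨a, ha, b, hb, rfl⟩ := Submodule.mem_sup.1 hy
        rw [fh_add_right, hle hx a ha, (hW ▸ hx : x ∈ E ⊓ perp σ T).2 b hb, add_zero]
      have h2 := Submodule.finrank_mono h1
      have h3 := finrank_perp h (W ⊔ T)
      have h4 := Submodule.finrank_sup_add_finrank_inf_eq W T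
      rw [h0, finrank_bot] at h4
      have h5 := Submodule.finrank_sup_add_finrank_inf_eq E (perp σ T)
      have h6 := Submodule.finrank_le (E ⊔ perp σ T)
      rw [Module.finrank_fin_fun] at h6
      have h7 := finrank_perp h T
      rw [← hW] at h5
      have := hj j (Nat.lt_succ_self j)
      omega
    obtain ⟨w, hw, hww⟩ := exists_aniso h W hnW
    rw [hW] at hw
    have hwf : ∀ a, fh σ w (f a) = 0 := fun a => hw.2 _ (hT ▸ Submodule.subset_span ⟨a, rfl⟩)
    refine ⟨Fin.cons w f, fun i => ?_, fun a b => ?_⟩
    · induction i using Fin.cases with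
      | zero => simpa using hw.1
      | succ i => simpa using hfE i
    · induction a using Fin.cases <;> induction b using Fin.cases <;>
        simp [hww, hwf, hf, fh_symm h (hwf _), Fin.succ_ne_zero, (Fin.succ_ne_zero _).symm]

/-- An orthonormal family has an orthonormal completion. -/
theorem exists_completion (h : F4 σ) {κ : Type*} [Fintype κ] [DecidableEq κ] {P : Matrix (Fin n) κ F}
    (hP : ct σ P * P = 1) :
    ∃ (l : ℕ) (Z : Matrix (Fin n) (Fin l) F), Fintype.card κ + l = n ∧ ct σ Z * Z = 1 ∧ ct σ Z * P = 0 := by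
  obtain ⟨T, hT⟩ : ∃ T, T = Submodule.span F (Set.range fun i => fun k => P k i) := ⟨_, rfl⟩
  have hF : Fintype.card F = 2 ^ 2 := h.card
  have hh : ∀ a b, fh σ (fun k => P k a) (fun k => P k b) = if a = b then 1 else 0 := fun a b => by
    rw [← fh_mulVec h, hP, Matrix.one_apply]
    simp [eq_comm]
  have hli : LinearIndependent F (fun i => fun k => P k i) :=
    orthonormal_li (q := 2) fun a b => by rw [← fh_eq_hermForm h.frob, hh]
  have hTd : Module.finrank F T = Fintype.card κ := by rw [hT, finrank_span_eq_card hli]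
  have hnd : ∀ u ∈ perp σ T, (∀ v ∈ perp σ T, Cfsg.hermForm n F 2 u v = 0) → u = 0 := by
    intro u hu hv
    have h1 : u ∈ T := by
      rw [← perp_perp h T]
      exact fun v hv' => by rw [fh_eq_hermForm h.frob]; exact hv v hv'
    rw [hT] at h1
    obtain ⟨c, rfl⟩ := (Submodule.mem_span_range_iff_exists_fun F).1 h1
    have hc : ∀ a, c a = 0 := fun a => by
      have h2 := hu (fun k => P k a) (hT ▸ Submodule.subset_span ⟨a, rfl⟩)
      rw [fh_sum_left] at h2
      simpa [fh_smul_left, hh] using h2
    simp [hc]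
  obtain ⟨f, hf, hspan⟩ := exists_orthonormal_span hF _ hnd
  have hd := finrank_perp h T
  refine ⟨Module.finrank F (perp σ T), Matrix.of fun k i => f i k, by omega, ?_, ?_⟩
  · ext i j
    rw [fh_mulVec h, Matrix.one_apply]
    show fh σ (f j) (f i) = _
    rw [fh_eq_hermForm h.frob, hf]
    simp [eq_comm]
  · ext i a
    rw [fh_mulVec h]
    refine fh_symm h ?_
    exact mem_perp.1 (hspan ▸ Submodule.subset_span ⟨i, rfl⟩ : f i ∈ perp σ T) _ (hT ▸ Submodule.subset_span ⟨a, rfl⟩)

end CfsgLib.SUComm.Two
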