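import Cfsg.Agent.Lib.Classical.SUComm.Two.Split

/-!
# Elements with a large eigenspace
-/

set_option autoImplicit false
set_option linter.unusedSectionVars false

namespace CfsgLib.SUComm.Two

open Matrix CfsgLib.Classical

variable {F : Type*} [Field F] [Fintype F] {σ : F →+* F} {n : ℕ}

/-- An eigenspace. -/
def eig (g : Matrix (Fin n) (Fin n) F) (ν : F) : Submodule F (Fin n → F) :=
  LinearMap.ker (Matrix.mulVecLin g - ν • LinearMap.id)

theorem mem_eig {g : Matrix (Fin n) (Fin n) F} {ν : F} {x : Fin n → F} : x ∈ eig g ν ↔ g *ᵥ x = ν • x := by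
  simp [eig, sub_eq_zero]

theorem fh_isometry {g : Matrix (Fin n) (Fin n) F} (hg : UStd σ g) (x y : Fin n → F) :
    fh σ (g *ᵥ x) (g *ᵥ y) = fh σ x y := by
  have e : ∀ x y : Fin n → F, fh σ x y = (fun i => σ (y i)) ⬝ᵥ x := fun x y => by
    simp [fh, dotProduct, mul_comm]
  rw [e, e, show (fun i => σ ((g *ᵥ y) i)) = (g.map σ) *ᵥ (fun i => σ (y i)) from funext fun i => by
    simp [Matrix.mulVec, dotProduct]]
  rw [← Matrix.vecMul_transpose, ← Matrix.dotProduct_mulVec, Matrix.mulVec_mulVec,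
    show (g.map σ)ᵀ * g = 1 from hg, Matrix.one_mulVec]

/-- `g` acts on the pairing with an eigenvector by the eigenvalue. -/
theorem fh_eig (h : F4 σ) {g : Matrix (Fin n) (Fin n) F} (hg : UStd σ g) {ν : F} (hν : ν ≠ 0) {e : Fin n → F}
    (he : e ∈ eig g ν) (y : Fin n → F) : fh σ (g *ᵥ y) e = ν * fh σ y e := by
  have h1 : σ ν * fh σ (g *ᵥ y) e = fh σ y e := by
    rw [← fh_smul_right, ← mem_eig.1 he, fh_isometry hg]
  rw [← h1, ← mul_assoc, h.norm hν, one_mul]

theorem det_conj (h : F4 σ) {κ : Type*} [Fintype κ] [DecidableEq κ] {P : Matrix (Fin n) κ F}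
    (hκ : Fintype.card κ = n) (hP : ct σ P * P = 1) (g : Matrix (Fin n) (Fin n) F) :
    (ct σ P * g * P).det = g.det := by
  have e : κ ≃ Fin n := Fintype.equivFinOfCardEq hκ
  have hPP : P * ct σ P = 1 := (Matrix.mul_eq_one_comm_of_equiv e).1 hP
  have h1 : (P.submatrix id e.symm).det * ((ct σ P).submatrix e.symm id).det = 1 := by
    rw [← det_mul, ← Matrix.submatrix_mul _ _ _ _ _ e.symm.bijective, hPP, submatrix_id_id, det_one]
  have h2 : (ct σ P * g * P).submatrix e.symm e.symm = (ct σ P).submatrix e.symm id * g * P.submatrix id e.symm := by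
    ext i j; simp [Matrix.mul_apply]
  rw [← det_submatrix_equiv_self e.symm, h2, det_mul, det_mul, mul_right_comm, mul_comm _ (P.submatrix id e.symm).det, h1,
    one_mul]

theorem col_ext {κ : Type*} (g : Matrix (Fin n) (Fin n) F) (K : Matrix (Fin n) κ F) (i : Fin n) (j : κ) :
    (g * K) i j = (g *ᵥ fun k => K k j) i := by
  simp [Matrix.mul_apply, Matrix.mulVec, dotProduct]

/-- Orthonormal eigenvectors as columns. -/
theorem mul_cols {κ : Type*} [Fintype κ] [DecidableEq κ] {g : Matrix (Fin n) (Fin n) F} {ν : F}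
    {K : Matrix (Fin n) κ F} (hK : ∀ a, (fun k => K k a) ∈ eig g ν) : g * K = K * (ν • (1 : Matrix κ κ F)) := by
  ext i a
  rw [col_ext, mem_eig.1 (hK a), Matrix.mul_smul, Matrix.mul_one]
  rfl

/-- Three orthonormal vectors in an eigenspace. -/
theorem isC_three (h : F4 σ) {g : Matrix (Fin n) (Fin n) F} (hg : UStd σ g) (hdet : g.det = 1) {ν : F} (hν : ν ≠ 0)
    (hdim : n + 3 ≤ 2 * Module.finrank F (eig g ν))
    (IH : ∀ l, l + 3 = n → ∀ g' : Matrix (Fin l) (Fin l) F, UStd σ g' → g'.det = 1 → IsC σ g') : IsC σ g := by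
  obtain ⟨f, hfE, hf⟩ := exists_on_family h (eig g ν) 3 fun i hi => by omega
  obtain ⟨K, hKdef⟩ : ∃ K : Matrix (Fin n) (Fin 3) F, K = Matrix.of fun k a => f a k := ⟨_, rfl⟩
  have hK : ct σ K * K = 1 := by
    ext a b
    rw [fh_mulVec h, Matrix.one_apply]
    simp [hKdef, hf, eq_comm]
  refine isC_split h hK hg hdet (mul_cols fun a => by rw [hKdef]; exact hfE a)
    (isC_scalar (q := 2) h.card h.frob (by norm_num) (h.norm hν) (h.cube hν)) (by simp [h.cube hν]) ?_
  exact fun l Z hl _ _ hu hd => IH l (by omega) _ hu hd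

/-- An eigenspace of codimension one. -/
theorem isC_rank_one (h : F4 σ) (hn : 4 ≤ n) (hn' : n ≤ 6) {g : Matrix (Fin n) (Fin n) F} (hg : UStd σ g)
    (hdet : g.det = 1) {ν : F} (hν : ν ≠ 0) (hdim : Module.finrank F (eig g ν) + 1 = n) : IsC σ g := by
  obtain ⟨E, hE⟩ : ∃ E, E = eig g ν := ⟨_, rfl⟩
  rw [← hE] at hdim
  obtain ⟨w, hw⟩ := h.exists_w
  have hp1 := finrank_perp h E
  obtain ⟨u, hu, hu0⟩ : ∃ u ∈ perp σ E, u ≠ 0 := Submodule.exists_mem_ne_zero_of_ne_bot fun e => by
    rw [e, finrank_bot] at hp1; omega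
  have hspan : perp σ E = Submodule.span F {u} := by
    refine (Submodule.eq_of_le_of_finrank_eq ((Submodule.span_singleton_le_iff_mem _ _).2 hu) ?_).symm
    rw [finrank_span_singleton hu0]; omega
  have hEu : ∀ x, x ∈ E ↔ fh σ x u = 0 := fun x => by rw [← mem_perp_one, ← hspan, perp_perp h]
  have hgE : ∀ e ∈ E, g *ᵥ e = ν • e := fun e he => mem_eig.1 (hE ▸ he)
  rcases h.fixed (fh_conj u u h.conj) with hiso | haniso
  · -- `u` isotropic
    obtain ⟨y, hy⟩ : ∃ y, fh σ y u ≠ 0 := by
      by_contra hc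
      push Not at hc
      exact hu0 (eq_zero_of_fh u fun y => fh_symm h (hc y))
    obtain ⟨p, hpp, hpu⟩ : ∃ p, fh σ p p = 1 ∧ fh σ p u ≠ 0 := by
      rcases h.fixed (fh_conj y y h.conj) with hy0 | hy1
      · refine ⟨y + (w / σ (fh σ y u)) • u, ?_, ?_⟩
        · have hc : σ (fh σ y u) ≠ 0 := (map_ne_zero σ).2 hy
          have e1 : fh σ u y = σ (fh σ y u) := (fh_conj _ _ h.conj).symm
          rw [fh_add_left, fh_add_right, fh_add_right, fh_smul_left, fh_smul_left, fh_smul_right, fh_smul_right, hy0,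
            hiso, e1, map_div₀, h.conj, hw.conj h]
          field_simp
          linear_combination fh σ y u * w * σ (fh σ y u) * h.two
        · rw [fh_add_left, fh_smul_left, hiso]; simpa using hy
      · exact ⟨y, hy1, hy⟩
    obtain ⟨c, hc⟩ : ∃ c : F, g *ᵥ p = ν • p + c • u := by
      have hd : g *ᵥ p - ν • p ∈ perp σ E := fun e he => by
        rw [fh_sub_left, fh_smul_left, fh_eig h hg hν (hE ▸ he), sub_self]
      rw [hspan] at hd
      obtain ⟨c, hc⟩ := Submodule.mem_span_singleton.1 hd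
      exact ⟨c, by rw [hc]; abel⟩
    have hc0 : c ≠ 0 := fun e => by
      apply hpu
      rw [← hEu]
      rw [hE, mem_eig, hc, e, zero_smul, add_zero]
    have hgu : g *ᵥ u = ν • u := hgE u ((hEu u).2 hiso)
    obtain ⟨q, hq⟩ : ∃ q, q = σ ν • g *ᵥ p := ⟨_, rfl⟩
    have hνσ := h.norm hν
    have hgp : g *ᵥ p = ν • q := by rw [hq, smul_smul, hνσ, one_smul]
    have hq' : q = p + (σ ν * c) • u := by
      rw [hq, hc, smul_add, smul_smul, smul_smul, mul_comm (σ ν) ν, hνσ, one_smul]
    have hgq : g *ᵥ q = ν • p := by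
      rw [hq', Matrix.mulVec_add, Matrix.mulVec_smul, hgu, hc, smul_smul, mul_right_comm, mul_comm (σ ν) ν, hνσ, one_mul,
        add_assoc, ← add_smul, h.add_self, zero_smul, add_zero]
    have hqq : fh σ q q = 1 := by rw [hq, fh_smul_left, fh_smul_right, fh_isometry hg, hpp, h.conj]; linear_combination hνσ
    have hqp : fh σ q p = 0 := by
      obtain ⟨z, hz⟩ : ∃ z, z = σ ν * c * fh σ u p := ⟨_, rfl⟩
      have e1 : z + σ z = 0 := by
        have e : σ (fh σ u p) = fh σ p u := fh_conj _ _ h.conj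
        rw [hq', fh_add_left, fh_add_right, fh_add_right, fh_smul_left, fh_smul_left, fh_smul_right, fh_smul_right, hpp,
          hiso] at hqq
        rw [hz, map_mul, e]
        linear_combination hqq
      have hz0 : z ≠ 0 := by
        rw [hz]
        refine mul_ne_zero (mul_ne_zero ((map_ne_zero σ).2 hν) hc0) fun e => hpu (fh_symm h e)
      have hz1 : z = 1 := (h.fixed (show σ z = z by linear_combination e1 - z * h.two)).resolve_left hz0
      rw [hq', fh_add_left, fh_smul_left, hpp, ← hz, hz1, h.add_self]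
    obtain ⟨K2, hK2⟩ : ∃ K : Matrix (Fin n) (Fin 2) F, K = Matrix.of fun k a => ![p, q] a k := ⟨_, rfl⟩
    have hK2on : ct σ K2 * K2 = 1 := by
      ext a b
      rw [fh_mulVec h, hK2]
      fin_cases a <;> fin_cases b <;> simp [hpp, hqq, hqp, fh_symm h hqp]
    obtain ⟨l2, Z2, hl2, hZ2, hZ2K⟩ := exists_completion h hK2on
    rw [Fintype.card_fin] at hl2
    obtain ⟨r, hr⟩ : ∃ r : Fin n → F, r = fun k => Z2 k ⟨0, by omega⟩ := ⟨_, rfl⟩
    have inE : ∀ x, fh σ x p = 0 → fh σ x q = 0 → x ∈ E := fun x h1 h2 => by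
      rw [hEu]
      rw [hq', fh_add_right, fh_smul_right, h1, zero_add] at h2
      exact (mul_eq_zero.1 h2).resolve_left ((map_ne_zero σ).2 (mul_ne_zero ((map_ne_zero σ).2 hν) hc0))
    have hr2 : ∀ a, fh σ r (![p, q] a) = 0 := fun a => by
      refine fh_symm h ?_
      have := congrFun (congrFun hZ2K ⟨0, by omega⟩) a
      rw [fh_mulVec h, hK2] at this
      rw [hr]
      exact this
    have hrr : fh σ r r = 1 := by
      have := congrFun (congrFun hZ2 ⟨0, by omega⟩) ⟨0, by omega⟩
      rw [fh_mulVec h, Matrix.one_apply_eq] at this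
      rw [hr]; exact this
    have hgr : g *ᵥ r = ν • r := hgE r (inE r (hr2 0) (hr2 1))
    obtain ⟨K, hKdef⟩ : ∃ K : Matrix (Fin n) (Fin 3) F, K = Matrix.of fun k a => ![p, q, r] a k := ⟨_, rfl⟩
    have hK : ct σ K * K = 1 := by
      ext a b
      rw [fh_mulVec h, hKdef]
      fin_cases a <;> fin_cases b <;>
        simp [hpp, hqq, hqp, fh_symm h hqp, hrr, show fh σ r p = 0 from hr2 0, show fh σ r q = 0 from hr2 1,
          fh_symm h (show fh σ r p = 0 from hr2 0), fh_symm h (show fh σ r q = 0 from hr2 1)]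
    have hgK : g * K = K * !![0, ν, 0; ν, 0, 0; 0, 0, ν] := by
      ext i a
      rw [col_ext, hKdef]
      fin_cases a <;> simp [Matrix.mul_apply, Fin.sum_univ_three, hgp, hgq, hgr, mul_comm]
    refine isC_split h hK hg hdet hgK (isC_swap3 h hν) (by
      rw [det_fin_three]; simp; linear_combination h.cube hν - ν ^ 3 * h.two) fun l Z hl _ hZK hu hd => ?_
    have hsc : ct σ Z * g * Z = (ν • 1 : Matrix (Fin l) (Fin l) F) := by
      have hin : ∀ a, (fun k => Z k a) ∈ eig g ν := fun a => by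
        have e : ∀ b, fh σ (fun k => Z k a) (![p, q, r] b) = 0 := fun b => by
          refine fh_symm h ?_
          have := congrFun (congrFun hZK a) b
          rw [fh_mulVec h, hKdef] at this
          exact this
        rw [← hE]
        exact inE _ (e 0) (e 1)
      rw [Matrix.mul_assoc, mul_cols hin, ← Matrix.mul_assoc]
      rename_i hZ
      rw [hZ, Matrix.one_mul]
    rw [hsc] at hd ⊢
    exact isC_scalar (q := 2) h.card h.frob (by omega) hνσ (by simpa using hd)
  · -- `u` anisotropic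
    obtain ⟨l, hl⟩ : ∃ l, g *ᵥ u = l • u := by
      have hd : g *ᵥ u ∈ perp σ E := fun e he => by rw [fh_eig h hg hν (hE ▸ he), mem_perp.1 hu e he, mul_zero]
      rw [hspan] at hd
      obtain ⟨c, hc⟩ := Submodule.mem_span_singleton.1 hd
      exact ⟨c, hc.symm⟩
    obtain ⟨U, hU⟩ : ∃ U : Matrix (Fin n) (Fin 1) F, U = Matrix.of fun k _ => u k := ⟨_, rfl⟩
    have hUon : ct σ U * U = 1 := by
      ext a b
      rw [fh_mulVec h, hU, Fin.fin_one_eq_zero a, Fin.fin_one_eq_zero b]
      simpa using haniso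
    have hgU : g * U = U * (l • 1 : Matrix (Fin 1) (Fin 1) F) := mul_cols fun a => by
      rw [hU, mem_eig]; exact hl
    have inE : ∀ {k : ℕ} {Z : Matrix (Fin n) (Fin k) F}, ct σ Z * U = 0 → ∀ a, (fun i => Z i a) ∈ eig g ν :=
      fun {k Z} hZ a => by
        rw [← hE, hEu]
        refine fh_symm h ?_
        have := congrFun (congrFun hZ a) 0
        rw [fh_mulVec h] at this
        simpa [hU] using this
    obtain ⟨m, Z, hm, hZ, hZU⟩ := exists_completion h hUon
    rw [Fintype.card_fin] at hm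
    have hl1 : ν ^ m * l = 1 := by
      obtain ⟨P, hP⟩ : ∃ P, P = fromCols Z U := ⟨_, rfl⟩
      have hPc : ct σ P = fromRows (ct σ Z) (ct σ U) := by rw [hP]; ext (i | i) j <;> simp [ct_apply]
      have hUZ : ct σ U * Z = 0 := by rw [← ct_zero σ, ← hZU, ct_mul, ct_ct σ h.conj]
      have hPP : ct σ P * P = 1 := by rw [hPc, hP, fromRows_mul_fromCols, hZ, hZU, hUZ, hUon, fromBlocks_one]
      have hd := det_conj h (P := P) (by simp; omega) hPP g
      rw [hdet, hPc, hP, fromRows_mul, fromRows_mul_fromCols, Matrix.mul_assoc (ct σ Z), Matrix.mul_assoc (ct σ Z),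
        Matrix.mul_assoc (ct σ U), Matrix.mul_assoc (ct σ U), mul_cols (inE hZU), hgU, ← Matrix.mul_assoc (ct σ Z),
        ← Matrix.mul_assoc (ct σ Z), ← Matrix.mul_assoc (ct σ U), ← Matrix.mul_assoc (ct σ U), hZ, hZU, hUZ, hUon,
        Matrix.zero_mul, Matrix.zero_mul, det_fromBlocks_zero₁₂] at hd
      simpa using hd
    rcases (by omega : n = 4 ∨ n = 5 ∨ n = 6) with rfl | rfl | rfl
    · obtain rfl : m = 3 := by omega
      rw [h.cube hν, one_mul] at hl1
      subst hl1
      rw [one_smul] at hgU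
      refine isC_split h hUon hg hdet hgU (isC_one 1) det_one fun k Z' hk hZ' hZU' _ _ => ?_
      obtain rfl : k = 3 := by omega
      rw [Matrix.mul_assoc, mul_cols (inE hZU'), ← Matrix.mul_assoc, hZ', Matrix.one_mul]
      exact isC_scalar (q := 2) h.card h.frob (by norm_num) (h.norm hν) (h.cube hν)
    · obtain rfl : m = 4 := by omega
      have hlν : l = σ ν := by
        rw [h.frob]
        linear_combination ν ^ 2 * hl1 - (ν ^ 3 + 1) * l * h.cube hν
      obtain ⟨K, hKdef⟩ : ∃ K : Matrix (Fin 5) (Fin 2) F, K = Matrix.of fun i a => ![fun i => Z i 0, u] a i := ⟨_, rfl⟩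
      have hz0 : fh σ (fun i => Z i 0) u = 0 := by
        rw [← hEu, hE]; exact inE hZU 0
      have hzz : fh σ (fun i => Z i 0) (fun i => Z i 0) = 1 := by
        have := congrFun (congrFun hZ 0) 0
        rwa [fh_mulVec h, Matrix.one_apply_eq] at this
      have hK : ct σ K * K = 1 := by
        ext a b
        rw [fh_mulVec h, hKdef]
        fin_cases a <;> fin_cases b <;> simp [hzz, haniso, hz0, fh_symm h hz0]
      have hgK : g * K = K * !![ν, 0; 0, σ ν] := by
        ext i a
        rw [col_ext, hKdef]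
        fin_cases a <;>
          simp [Matrix.mul_apply, Fin.sum_univ_two, mem_eig.1 (inE hZU 0), hl, hlν, mul_comm]
      refine isC_split h hK hg hdet hgK (isC_pair_diag h hν) (by rw [det_fin_two]; simp [h.norm hν])
        fun k Z' hk hZ' hZK _ _ => ?_
      obtain rfl : k = 3 := by omega
      have hZU' : ct σ Z' * U = 0 := by
        ext a b
        have := congrFun (congrFun hZK a) 1
        rw [fh_mulVec h] at this ⊢
        simpa [hKdef, hU] using this
      rw [Matrix.mul_assoc, mul_cols (inE hZU'), ← Matrix.mul_assoc, hZ', Matrix.one_mul]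
      exact isC_scalar (q := 2) h.card h.frob (by norm_num) (h.norm hν) (h.cube hν)
    · exfalso
      obtain rfl : m = 5 := by omega
      have hlν : l = ν := by linear_combination ν * hl1 - (ν ^ 3 + 1) * l * h.cube hν
      have : u ∈ E := by rw [hE, mem_eig, hl, hlν]
      rw [hEu, haniso] at this
      exact one_ne_zero this

end CfsgLib.SUComm.Two
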