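import Cfsg.Agent.Lib.Classical.SUComm.Two.Perp

/-!
# Direct sums, small witnesses and elements with a large eigenspace
-/

set_option autoImplicit false
set_option linter.unusedSectionVars false

namespace CfsgLib.SUComm.Two

open Matrix CfsgLib.Classical CfsgLib.Classical.SmallIso

variable {F : Type*} [Field F] [Fintype F] {σ : F →+* F} {n : ℕ}

theorem ct_fromBlocks {a b : Type*} (A : Matrix a a F) (B : Matrix a b F) (C : Matrix b a F) (D : Matrix b b F) :
    ct σ (fromBlocks A B C D) = fromBlocks (ct σ A) (ct σ C) (ct σ B) (ct σ D) := by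
  rw [ct, fromBlocks_map, fromBlocks_transpose]; rfl

/-- Direct sums of commutators are commutators. -/
theorem isC_of_cols (h : F4 σ) {k l : ℕ} (hkl : k + l = n) {P : Matrix (Fin n) (Fin k ⊕ Fin l) F}
    (hP : ct σ P * P = 1) {g : Matrix (Fin n) (Fin n) F} {X : Matrix (Fin k) (Fin k) F} {Y : Matrix (Fin l) (Fin l) F}
    (hg : ct σ P * g * P = fromBlocks X 0 0 Y) (hX : IsC σ X) (hY : IsC σ Y) : IsC σ g := by
  have e : Fin k ⊕ Fin l ≃ Fin n := finSumFinEquiv.trans (finCongr hkl)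
  have hPP : P * ct σ P = 1 := (Matrix.mul_eq_one_comm_of_equiv e).1 hP
  obtain ⟨a, z, ha, hz, had, hzd, eX⟩ := hX
  obtain ⟨a', z', ha', hz', had', hzd', eY⟩ := hY
  let φ := fun (A : Matrix (Fin k) (Fin k) F) (B : Matrix (Fin l) (Fin l) F) => P * fromBlocks A 0 0 B * ct σ P
  have hmul : ∀ A B C D, φ A B * φ C D = φ (A * C) (B * D) := fun A B C D => by
    show P * _ * ct σ P * (P * _ * ct σ P) = P * _ * ct σ P
    calc P * fromBlocks A 0 0 B * ct σ P * (P * fromBlocks C 0 0 D * ct σ P)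
        = P * (fromBlocks A 0 0 B * (ct σ P * P) * fromBlocks C 0 0 D) * ct σ P := by simp only [Matrix.mul_assoc]
      _ = _ := by rw [hP, Matrix.mul_one, fromBlocks_multiply]; simp
  have hct : ∀ A B, ct σ (φ A B) = φ (ct σ A) (ct σ B) := fun A B => by
    show ct σ (P * _ * ct σ P) = P * _ * ct σ P
    rw [ct_mul, ct_mul, ct_ct σ h.conj, ct_fromBlocks, ct_zero, ct_zero]
    simp only [Matrix.mul_assoc]
  have hone : φ 1 1 = 1 := by
    show P * _ * ct σ P = 1
    rw [fromBlocks_one, Matrix.mul_one, hPP]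
  have hdet : ∀ A B, (φ A B).det = A.det * B.det := fun A B => by
    show (P * fromBlocks A 0 0 B * ct σ P).det = _
    have h1 : P * fromBlocks A 0 0 B * ct σ P = P.submatrix id e.symm * (fromBlocks A 0 0 B).submatrix e.symm e.symm *
        (ct σ P).submatrix e.symm id := by
      rw [← Matrix.submatrix_mul _ _ _ _ _ e.symm.bijective, ← Matrix.submatrix_mul _ _ _ _ _ e.symm.bijective]
      rfl
    have h2 : (P.submatrix id e.symm).det * ((ct σ P).submatrix e.symm id).det = 1 := by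
      rw [← det_mul, ← Matrix.submatrix_mul _ _ _ _ _ e.symm.bijective, hPP, submatrix_id_id, det_one]
    rw [h1, det_mul, det_mul, mul_right_comm, h2, one_mul, det_submatrix_equiv_self, det_fromBlocks_zero₁₂]
  refine ⟨φ a a', φ z z', ?_, ?_, by rw [hdet, had, had', one_mul], by rw [hdet, hzd, hzd', one_mul], ?_⟩
  · rw [UStd, hct, hmul, show ct σ a * a = 1 from ha, show ct σ a' * a' = 1 from ha', hone]
  · rw [UStd, hct, hmul, show ct σ z * z = 1 from hz, show ct σ z' * z' = 1 from hz', hone]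
  · rw [hct, hct, hmul, hmul, hmul, ← eX, ← eY]
    show g = P * fromBlocks X 0 0 Y * ct σ P
    rw [← hg]
    calc g = (P * ct σ P) * g * (P * ct σ P) := by rw [hPP, Matrix.one_mul, Matrix.mul_one]
      _ = _ := by simp only [Matrix.mul_assoc]

theorem isC_one (k : ℕ) : IsC σ (1 : Matrix (Fin k) (Fin k) F) :=
  ⟨1, 1, by simp [UStd], by simp [UStd], det_one, det_one, by simp⟩

/-- Splitting off an invariant orthonormal family. -/
theorem isC_split (h : F4 σ) {k : ℕ} {K : Matrix (Fin n) (Fin k) F} (hK : ct σ K * K = 1)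
    {g : Matrix (Fin n) (Fin n) F} (hg : UStd σ g) (hdet : g.det = 1) {X : Matrix (Fin k) (Fin k) F}
    (hgK : g * K = K * X) (hX : IsC σ X) (hXd : X.det = 1)
    (hrest : ∀ (l : ℕ) (Z : Matrix (Fin n) (Fin l) F), k + l = n → ct σ Z * Z = 1 → ct σ Z * K = 0 →
      UStd σ (ct σ Z * g * Z) → (ct σ Z * g * Z).det = 1 → IsC σ (ct σ Z * g * Z)) :
    IsC σ g := by
  obtain ⟨l, Z, hl, hZ, hZK⟩ := exists_completion h hK
  rw [Fintype.card_fin] at hl
  have hKZ : ct σ K * Z = 0 := by rw [← ct_zero σ, ← hZK, ct_mul, ct_ct σ h.conj]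
  have hXu : ct σ X * X = 1 := by
    have e : ct σ (g * K) * (g * K) = 1 := by
      rw [ct_mul, Matrix.mul_assoc, ← Matrix.mul_assoc (ct σ g), show ct σ g * g = 1 from hg, Matrix.one_mul, hK]
    rwa [hgK, ct_mul, Matrix.mul_assoc, ← Matrix.mul_assoc (ct σ K), hK, Matrix.one_mul] at e
  have e1 : ct σ K * g * K = X := by rw [Matrix.mul_assoc, hgK, ← Matrix.mul_assoc, hK, Matrix.one_mul]
  have e2 : ct σ Z * g * K = 0 := by rw [Matrix.mul_assoc, hgK, ← Matrix.mul_assoc, hZK, Matrix.zero_mul]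
  have e3 : ct σ K * g * Z = 0 := by
    have h1 : ct σ X * (ct σ K * g) = ct σ K := by
      rw [← Matrix.mul_assoc, ← ct_mul, ← hgK, ct_mul, Matrix.mul_assoc, show ct σ g * g = 1 from hg, Matrix.mul_one]
    have h2 : ct σ K * g = X * ct σ K := by
      conv_rhs => rw [← h1, ← Matrix.mul_assoc, mul_eq_one_comm.1 hXu, Matrix.one_mul]
    rw [h2, Matrix.mul_assoc, hKZ, Matrix.mul_zero]
  obtain ⟨P, hP⟩ : ∃ P, P = fromCols K Z := ⟨_, rfl⟩
  have hPc : ct σ P = fromRows (ct σ K) (ct σ Z) := by rw [hP]; ext (i | i) j <;> simp [ct_apply]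
  have hPP : ct σ P * P = 1 := by rw [hPc, hP, fromRows_mul_fromCols, hK, hKZ, hZK, hZ, fromBlocks_one]
  have hPg : ct σ P * g * P = fromBlocks X 0 0 (ct σ Z * g * Z) := by
    rw [hPc, hP, fromRows_mul, fromRows_mul_fromCols, e1, e2, e3]
  have e : Fin k ⊕ Fin l ≃ Fin n := finSumFinEquiv.trans (finCongr hl)
  have hPP' : P * ct σ P = 1 := (Matrix.mul_eq_one_comm_of_equiv e).1 hPP
  refine isC_of_cols h hl hPP hPg hX (hrest l Z hl hZ hZK ?_ ?_)
  · have e4 : ct σ (ct σ P * g * P) * (ct σ P * g * P) = 1 := by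
      rw [ct_mul, ct_mul, ct_ct σ h.conj]
      calc ct σ P * (ct σ g * P) * (ct σ P * g * P) = ct σ P * (ct σ g * (P * ct σ P) * g) * P := by
            simp only [Matrix.mul_assoc]
        _ = 1 := by rw [hPP', Matrix.mul_one, show ct σ g * g = 1 from hg, Matrix.mul_one, hPP]
    rw [hPg, ct_fromBlocks, ct_zero, ct_zero, fromBlocks_multiply, ← fromBlocks_one, fromBlocks_inj] at e4
    simpa [UStd] using e4.2.2.2
  · have e5 : (P.submatrix id e.symm).det * ((ct σ P).submatrix e.symm id).det = 1 := by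
      rw [← det_mul, ← Matrix.submatrix_mul _ _ _ _ _ e.symm.bijective, hPP', submatrix_id_id, det_one]
    have e6 : (ct σ P * g * P).submatrix e.symm e.symm = (ct σ P).submatrix e.symm id * g * P.submatrix id e.symm := by
      ext i j; simp [Matrix.mul_apply]
    have e7 := congrArg det e6
    rw [det_submatrix_equiv_self, hPg, det_fromBlocks_zero₁₂, hXd, one_mul, det_mul, det_mul, hdet, mul_one,
      mul_comm, e5] at e7
    exact e7

/-- The diagonal pair `ν, σν`. -/
theorem isC_pair_diag (h : F4 σ) {ν : F} (hν : ν ≠ 0) : IsC σ !![ν, 0; 0, σ ν] := by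
  have h1 := h.norm hν
  have h4 : σ ν * σ ν = ν := by rw [h.frob]; linear_combination h.fourth ν
  have h5 : ν * ν = σ ν := by rw [h.frob]; ring
  refine ⟨!![0, 1; 1, 0], !![ν, 0; 0, σ ν], ?_, ?_, ?_, ?_, ?_⟩
  · rw [UStd]; ext i j; fin_cases i <;> fin_cases j <;> simp [ct, Matrix.mul_apply]
  · rw [UStd]; ext i j; fin_cases i <;> fin_cases j <;> simp [ct, Matrix.mul_apply, h.conj, mul_comm, h1]
  · rw [det_fin_two]; simp [h.neg_eq]
  · rw [det_fin_two]; simp [h1]
  · ext i j; fin_cases i <;> fin_cases j <;> simp [ct, Matrix.mul_apply, Fin.sum_univ_two, -Matrix.cons_mul, h.conj, h4, h5]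

/-- The witness in three dimensions. -/
theorem isC_swap3 (h : F4 σ) {ν : F} (hν : ν ≠ 0) : IsC σ !![0, ν, 0; ν, 0, 0; 0, 0, ν] := by
  obtain ⟨φ, -, hw, hsq⟩ := h.exists_model
  have key : ∀ T A B : Matrix (Fin 3) (Fin 3) W4, (A.map W4.sq)ᵀ * A = 1 → (B.map W4.sq)ᵀ * B = 1 → A.det = 1 →
      B.det = 1 → T = A * B * (A.map W4.sq)ᵀ * (B.map W4.sq)ᵀ → IsC σ (T.map φ) := by
    intro T A B hA hB hAd hBd hT
    have hmap : ∀ M : Matrix (Fin 3) (Fin 3) W4, ct σ (M.map φ) = ((M.map W4.sq)ᵀ).map φ := fun M => by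
      ext i j; simp [ct, hsq]
    refine ⟨A.map φ, B.map φ, ?_, ?_, ?_, ?_, ?_⟩
    · rw [UStd, hmap, ← Matrix.map_mul, hA]; exact Matrix.map_one φ (map_zero φ) (map_one φ)
    · rw [UStd, hmap, ← Matrix.map_mul, hB]; exact Matrix.map_one φ (map_zero φ) (map_one φ)
    · show (φ.mapMatrix A).det = 1
      rw [← RingHom.map_det, hAd, map_one]
    · show (φ.mapMatrix B).det = 1
      rw [← RingHom.map_det, hBd, map_one]
    · rw [hmap, hmap, ← Matrix.map_mul, ← Matrix.map_mul, ← Matrix.map_mul, ← hT]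
  have hw0 : (φ W4.w + 1) = φ (W4.w + 1) := by rw [map_add, map_one]
  rcases h.cases hw ν with rfl | rfl | rfl | rfl
  · exact absurd rfl hν
  · have := key !![0, 1, 0; 1, 0, 0; 0, 0, 1] !![1, W4.w, 1; W4.w, 1, 1; W4.w, W4.w, W4.w + 1]
      !![1, W4.w, W4.w; W4.w, 1, W4.w; 1, 1, W4.w + 1] (by decide +kernel) (by decide +kernel) (by decide +kernel)
      (by decide +kernel) (by decide +kernel)
    convert this using 1
    ext i j; fin_cases i <;> fin_cases j <;> simp
  · have := key !![0, W4.w, 0; W4.w, 0, 0; 0, 0, W4.w] !![1, 1, 1; 1, W4.w, W4.w + 1; 1, W4.w + 1, W4.w]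
      !![1, 1, W4.w; W4.w, W4.w + 1, W4.w; W4.w, 1, 1] (by decide +kernel) (by decide +kernel) (by decide +kernel)
      (by decide +kernel) (by decide +kernel)
    convert this using 1
    ext i j; fin_cases i <;> fin_cases j <;> simp
  · rw [hw0]
    have := key !![0, W4.w + 1, 0; W4.w + 1, 0, 0; 0, 0, W4.w + 1] !![1, 1, 1; 1, W4.w + 1, W4.w; 1, W4.w, W4.w + 1]
      !![1, 1, W4.w; W4.w + 1, 1, W4.w + 1; 1, W4.w + 1, W4.w + 1] (by decide +kernel) (by decide +kernel) (by decide +kernel)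
      (by decide +kernel) (by decide +kernel)
    convert this using 1
    ext i j; fin_cases i <;> fin_cases j <;> simp

end CfsgLib.SUComm.Two
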